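import Groth.Agent.L07.BlowLib.FlatScheme
import Groth.Agent.L07.RegImmLocal
import Groth.Agent.L07.QuasiSmoothNoeth
import Groth.Agent.L14.RegImmStalk.Kinds
import Groth.Agent.L16.ProjSpace.Basic
import Groth.Prelude.Def_P1
import Groth.Prelude.Def_RegImm

/-! Normal flatness along relative regular immersions. -/

set_option autoImplicit false
set_option linter.style.haveILetI false
set_option maxSynthPendingDepth 3
set_option maxHeartbeats 1600000
set_option backward.isDefEq.respectTransparency false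
set_option backward.isDefEq.respectTransparency.types false

universe u

open CategoryTheory CategoryTheory.Limits AlgebraicGeometry TopologicalSpace Opposite

namespace Groth.L07.BlowLib

open Groth.L13.BU Groth.L22

variable {X S : Scheme.{u}}

theorem flat_subscheme_pow (g : X ⟶ S) (J : X.IdealSheafData) (hJ : RegImm.IsRegularIdeal .quasi J)
    [Flat (J.subschemeι ≫ g)] (n : ℕ) : Flat ((J ^ (n + 1)).subschemeι ≫ g) := by
  refine flat_of_openImm_charts _ fun z => ?_
  have hsupp : (J ^ (n + 1)).subschemeι z ∈ J.support := by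
    have h : (J ^ (n + 1)).subschemeι z ∈ ((J ^ (n + 1)).support : Set X) := by
      rw [← Scheme.IdealSheafData.range_subschemeι]; exact ⟨z, rfl⟩
    rwa [Scheme.IdealSheafData.support_pow _ _ (Nat.succ_ne_zero n)] at h
  obtain ⟨U, hxU, rs, hrs, hI⟩ := hJ _ hsupp
  obtain ⟨_, ⟨V, hV, rfl⟩, hxV, -⟩ := S.isBasis_affineOpens.exists_subset_of_mem_open
    (Set.mem_univ (g ((J ^ (n + 1)).subschemeι z))) isOpen_univ
  obtain ⟨h, hle, hxh⟩ := U.2.exists_basicOpen_le (V := g ⁻¹ᵁ V) ⟨_, hxV⟩ hxU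
  let W := X.basicOpen h
  have hW : IsAffineOpen W := U.2.basicOpen h
  have e : W ≤ g ⁻¹ᵁ V := hle
  have hWU : W ≤ U.1 := X.basicOpen_le h
  letI := baseAlg g e
  let r : Γ(X, U.1) →+* Γ(X, W) := (X.presheaf.map (homOfLE hWU).op).hom
  let f : Fin rs.length → Γ(X, W) := r ∘ rs.get
  have hspan : J.ideal ⟨W, hW⟩ = Ideal.span (Set.range f) := by
    rw [← Scheme.IdealSheafData.map_ideal J (U := ⟨W, hW⟩) (V := U) hWU, hI, Ideal.ofList, Ideal.map_span,
      Set.range_comp]
    congr 2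
    ext x
    simp [List.mem_iff_get]
  have hq : CAlgX.IsQuasiRegular f := by
    letI := r.toAlgebra
    haveI : IsLocalization.Away h Γ(X, W) := U.2.isLocalization_basicOpen h
    exact Groth.L14.RegImmStalk.isQuasiRegular_localization (Submonoid.powers h) Γ(X, W) hrs
  have hfl := flat_quotient g hW hV e J
  rw [hspan] at hfl
  haveI := Groth.L07.QuasiSmooth.flat_quot_pow f hq hfl (n + 1)
  obtain ⟨q, hq', hqι, hqr⟩ := Groth.L11.BlowSmooth.exists_closed_chart (J ^ (n + 1)).subschemeι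
    (hW.fromSpec : Spec (CommRingCat.of Γ(X, W)) ⟶ X) (Ideal.span (Set.range f) ^ (n + 1))
    (by rw [Scheme.IdealSheafData.ker_subschemeι]
        refine (Groth.L11.BlowSmooth.comap_fromSpec (J ^ (n + 1)) ⟨W, hW⟩).trans ?_
        rw [Scheme.IdealSheafData.ideal_pow, Pi.pow_apply, hspan])
  refine ⟨_, q, hq', hqr z (by rw [hW.range_fromSpec]; exact hxh), ?_⟩
  let φ := (Ideal.Quotient.mk (Ideal.span (Set.range f) ^ (n + 1))).comp (g.appLE V W e).hom
  haveI : Flat (Spec.map (CommRingCat.ofHom φ)) := by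
    refine (HasRingHomProperty.Spec_iff (P := @Flat) (φ := CommRingCat.ofHom φ)).2 ?_
    rw [show φ = algebraMap Γ(S, V) (Γ(X, W) ⧸ Ideal.span (Set.range f) ^ (n + 1)) from rfl]
    exact RingHom.flat_algebraMap_iff.2 inferInstance
  rw [reassoc_of% hqι]
  show Flat (Spec.map _ ≫ hW.fromSpec ≫ g)
  rw [fromSpec_comp g hW hV e, ← Spec.map_comp_assoc]
  exact MorphismProperty.comp_mem @Flat (Spec.map (CommRingCat.ofHom φ)) hV.fromSpec inferInstance inferInstance

theorem isRegularIdeal_quasi_ker {Y : Scheme.{u}} (j : Y ⟶ X) [IsClosedImmersion j]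
    (hj : ∀ y, RegImm.IsRegularImmersionAt .koszul j y) : RegImm.IsRegularIdeal .quasi j.ker := by
  intro x hx
  obtain ⟨y, rfl⟩ : x ∈ Set.range j := by
    have hx' : x ∈ (j.ker.support : Set X) := hx
    rwa [Scheme.Hom.support_ker, j.isClosedEmbedding.isClosed_range.closure_eq] at hx'
  obtain ⟨U, hyU, -, rs, hrs, hker⟩ := hj y
  exact ⟨U, hyU, rs,
    Groth.L14.RegImmStalk.isQuasiRegular_of_h1 (Groth.L19.Thick.isH1Regular_of_koszul hrs),
    (Scheme.Hom.ker_apply j U).trans hker⟩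

theorem isPullback_toBase {X X' : Scheme.{u}} (g : X' ⟶ X) :
    IsPullback (P1.toP1 g) (CohB1.ProjSpaceOver.toBase 1 X') (CohB1.ProjSpaceOver.toBase 1 X) g := by
  refine IsPullback.of_right ?_ ?_ (IsPullback.of_hasPullback (CohB1.ProjSpace.toSpec 1 (ULift.{u} ℤ))
    (specULiftZIsTerminal.from X))
  · have h1 : P1.toP1 g ≫ pullback.fst (CohB1.ProjSpace.toSpec 1 (ULift.{u} ℤ)) (specULiftZIsTerminal.from X) =
        pullback.fst (CohB1.ProjSpace.toSpec 1 (ULift.{u} ℤ)) (specULiftZIsTerminal.from X') :=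
      (pullback.lift_fst _ _ _).trans (Category.comp_id _)
    have h2 : g ≫ specULiftZIsTerminal.from X = specULiftZIsTerminal.from X' :=
      specULiftZIsTerminal.hom_ext _ _
    rw [h1, h2]
    exact IsPullback.of_hasPullback _ _
  · exact pullback.lift_snd _ _ _

theorem sect_toBase (X : Scheme.{u}) (i : Fin (1 + 1)) : P1.sect X i ≫ CohB1.ProjSpaceOver.toBase 1 X = 𝟙 X :=
  pullback.lift_snd _ _ _

theorem sect_toP1 {X X' : Scheme.{u}} (g : X' ⟶ X) (i : Fin (1 + 1)) :
    P1.sect X' i ≫ P1.toP1 g = g ≫ P1.sect X i := by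
  apply pullback.hom_ext
  · simp only [P1.sect, P1.toP1, Category.assoc, pullback.lift_fst, pullback.lift_fst_assoc, Category.comp_id]
    rw [← Category.assoc g, specULiftZIsTerminal.hom_ext (g ≫ specULiftZIsTerminal.from X)
      (specULiftZIsTerminal.from X')]
  · simp [P1.sect, P1.toP1]
    exact Category.id_comp g

theorem deformation_baseChange {S' X' Y Y' M M' : Scheme.{u}} (f : X ⟶ S) (i : Y ⟶ X) [IsClosedImmersion i]
    (hi : RegImm.IsRegularImmersion .regular i) [Flat (i ≫ f)]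
    (b : M ⟶ CohB1.ProjSpaceOver 1 X) (hb : BlowUp.IsBlowUp b (i ≫ P1.sect X 1).ker)
    (h : S' ⟶ S) (f' : X' ⟶ S') (g : X' ⟶ X) (hX : IsPullback g f' f h)
    (i' : Y' ⟶ X') (gY : Y' ⟶ Y) (hY : IsPullback gY i' i g)
    (b' : M' ⟶ CohB1.ProjSpaceOver 1 X') (μ : M' ⟶ M) (hM : IsPullback μ b' b (P1.toP1 g)) :
    BlowUp.IsBlowUp b' (i' ≫ P1.sect X' 1).ker := by
  let p := CohB1.ProjSpaceOver.toBase 1 X
  haveI : Smooth p := Groth.L16.ProjSpace.smooth_toBase 1 X
  haveI : IsProper p := Groth.L16.ProjSpace.isProper_toBase 1 X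
  haveI : IsClosedImmersion (P1.sect X 1) := by
    haveI : IsClosedImmersion (P1.sect X 1 ≫ p) := by rw [sect_toBase]; infer_instance
    exact IsClosedImmersion.of_comp (P1.sect X 1) p
  let j := i ≫ P1.sect X 1
  have hjp : j ≫ p = i := by rw [Category.assoc, sect_toBase, Category.comp_id]
  have hj : ∀ y, RegImm.IsRegularImmersionAt .koszul j y := fun y => by
    obtain ⟨U, hy, hcl, rs, hrs, hker⟩ := hi.2 y
    exact (Groth.L07.RegImmAt.regularAt_comp_smooth_iff' j p i hjp y).1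
      ⟨U, hy, hcl, rs, Groth.L14.RegImmStalk.kind_of_isRegular .koszul hrs, hker⟩
  have hreg := isRegularIdeal_quasi_ker j hj
  haveI : Flat (j.ker.subschemeι ≫ p ≫ f) := by
    have h1 : j.toImage ≫ j.imageι = j := j.toImage_imageι
    have h2 : j.ker.subschemeι ≫ p ≫ f = inv j.toImage ≫ (i ≫ f) := by
      rw [IsIso.eq_inv_comp, ← reassoc_of% hjp]
      rw [← Category.assoc, show j.toImage ≫ j.ker.subschemeι = j from h1]
    rw [h2]
    infer_instance
  have hflat := flat_subscheme_pow (p ≫ f) j.ker hreg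
  have hpbX : IsPullback (P1.toP1 g) (CohB1.ProjSpaceOver.toBase 1 X' ≫ f') (p ≫ f) h :=
    (isPullback_toBase g).paste_vert hX
  have hblow := isBlowUp_baseChange (p ≫ f) j.ker hflat hb hpbX hM
  have hsq : IsPullback g (P1.sect X' 1) (P1.sect X 1) (P1.toP1 g) := by
    refine IsPullback.of_bot ?_ (sect_toP1 g 1).symm (isPullback_toBase g)
    rw [sect_toBase, sect_toBase]
    exact IsPullback.of_vert_isIso ⟨by simp⟩
  have hpbY : IsPullback (i' ≫ P1.sect X' 1) gY (P1.toP1 g) j := (hY.paste_vert hsq).flip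
  have hker : (i' ≫ P1.sect X' 1).ker = j.ker.comap (P1.toP1 g) := by
    rw [← hpbY.isoPullback_hom_fst, Scheme.Hom.ker_comp_of_isIso,
      Scheme.IdealSheafData.ker_fst_of_isClosedImmersion]
  rw [hker]
  exact hblow

end Groth.L07.BlowLib
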