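import Groth.Agent.L13.BlowUp.Exists
import Groth.Agent.L11.BlowSmooth.Sch
import Mathlib.AlgebraicGeometry.Morphisms.ClosedImmersion

/-! The strict transform of a closed subscheme is a closed subscheme of the blow-up. -/

set_option autoImplicit false
set_option linter.style.haveILetI false

universe u

open CategoryTheory CategoryTheory.Limits AlgebraicGeometry TopologicalSpace Opposite

namespace Groth.L07.BlowLib

open Groth.L13.BU Groth.L22

/-- being a closed immersion may be checked on charts -/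
theorem isClosedImmersion_of_charts {X Y : Scheme.{u}} (f : X ⟶ Y)
    (h : ∀ y : Y, ∃ (V U : Scheme.{u}) (iV : V ⟶ Y) (iU : U ⟶ X) (g : U ⟶ V)
      (_ : IsOpenImmersion iV) (_ : IsOpenImmersion iU) (_ : IsClosedImmersion g),
      iU ≫ f = g ≫ iV ∧ y ∈ Set.range iV ∧ ∀ x : X, f x ∈ Set.range iV → x ∈ Set.range iU) :
    IsClosedImmersion f := by
  choose V U iV iU g hV hU hg hw hy hr using h
  refine IsZariskiLocalAtTarget.of_iSup_eq_top (P := @IsClosedImmersion) (fun y => (iV y).opensRange)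
    (eq_top_iff.2 fun y _ => Opens.mem_iSup.2 ⟨y, hy y⟩) fun y => ?_
  have hpre : f ⁻¹ᵁ (iV y).opensRange = (iU y).opensRange := by
    refine Opens.ext (Set.Subset.antisymm (fun x hx => hr y x hx) ?_)
    rintro _ ⟨u, rfl⟩
    refine ⟨g y u, ?_⟩
    rw [← Scheme.Hom.comp_apply, ← Scheme.Hom.comp_apply, hw y]
  have hpb := IsOpenImmersion.isPullback (g y) (iU y) (iV y) f (hw y) hpre
  have h1 : IsClosedImmersion (pullback.fst (iV y) f) := by
    rw [← hpb.isoPullback_inv_fst]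
    haveI := hg y
    infer_instance
  refine ((MorphismProperty.arrow_mk_iso_iff @IsClosedImmersion (morphismRestrictOpensRange f (iV y)))).2 ?_
  show IsClosedImmersion (pullback.snd f (iV y))
  rw [← pullbackSymmetry_hom_comp_fst]
  infer_instance

section Affine

variable {A B : Type u} [CommRing A] [CommRing B] {φ : A →+* B} (I : Ideal A)

theorem isEffCartier_chart (a : A) (ha : a ∈ I ^ 1) :
    BlowUp.IsEffCartierIdeal ((idealOf I).comap (Spec.map (CommRingCat.ofHom (chartHom I a ha)))) := by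
  rw [← chartι_reesToSpec, Scheme.IdealSheafData.comap_comp]
  exact Ideals.isEffCartier_comap_of_flat _ (isEffCartier_rees (I := I))

theorem idealOf_comap (φ : A →+* B) :
    (idealOf I).comap (Spec.map (CommRingCat.ofHom φ)) = idealOf (I.map φ) :=
  Scheme.IdealSheafData.ext_of_isAffine ((comap_SpecMap φ I).trans (idealOf_top _).symm)

theorem map_mem_pow (φ : A →+* B) (n : ℕ) {x : A} (hx : x ∈ I ^ n) : φ x ∈ (I.map φ) ^ n := by
  rw [← Ideal.map_pow]; exact Ideal.mem_map_of_mem φ hx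

theorem exists_chartMap (φ : A →+* B) (a : A) (ha : a ∈ I ^ 1) :
    ∃ χ : Chart I a ha →+* Chart (I.map φ) (φ a) (map_mem_pow I φ 1 ha),
      χ.comp (chartHom I a ha) = (chartHom (I.map φ) (φ a) (map_mem_pow I φ 1 ha)).comp φ ∧
      ∀ n c (hc : c ∈ I ^ n), χ (frac I a ha n c hc) =
        frac (I.map φ) (φ a) (map_mem_pow I φ 1 ha) n (φ c) (map_mem_pow I φ n hc) := by
  obtain ⟨χ, hχ⟩ := exists_chart_lift I a ha ((chartHom (I.map φ) (φ a) (map_mem_pow I φ 1 ha)).comp φ)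
    (chartHom_nonZeroDivisor _ _ _) (fun x hx => by
      rw [RingHom.comp_apply, RingHom.comp_apply, chartHom_eq (I.map φ) (φ a) (map_mem_pow I φ 1 ha)
        (φ x) (map_mem_pow I φ 1 (by rwa [pow_one]))]
      exact Dvd.intro _ rfl)
  have hbase : ∀ r, χ (chartHom I a ha r) = chartHom (I.map φ) (φ a) (map_mem_pow I φ 1 ha) (φ r) :=
    fun r => congrArg (fun f : A →+* _ => f r) hχ
  refine ⟨χ, hχ, fun n c hc => ?_⟩
  refine (mul_cancel_left_mem_nonZeroDivisors
    (pow_mem (chartHom_nonZeroDivisor (I.map φ) (φ a) (map_mem_pow I φ 1 ha)) n)).1 ?_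
  refine Eq.trans ?_ (pow_mul_frac (I.map φ) (φ a) (map_mem_pow I φ 1 ha) n (φ c) (map_mem_pow I φ n hc)).symm
  refine Eq.trans ?_ ((congrArg χ (pow_mul_frac I a ha n c hc)).trans (hbase c))
  rw [← hbase]
  exact ((map_mul χ _ _).trans (congrArg (· * χ (frac I a ha n c hc)) (map_pow χ (chartHom I a ha a) n))).symm

theorem chartι_comp_proj (g : Proj (Rees.deg (reesAlgebra (I.map φ))) ⟶ Proj (Rees.deg (reesAlgebra I)))
    (hg : g ≫ reesToSpec I = reesToSpec (I.map φ) ≫ Spec.map (CommRingCat.ofHom φ))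
    (a : A) (ha : a ∈ I ^ 1) (χ : Chart I a ha →+* Chart (I.map φ) (φ a) (map_mem_pow I φ 1 ha))
    (hχ : χ.comp (chartHom I a ha) = (chartHom (I.map φ) (φ a) (map_mem_pow I φ 1 ha)).comp φ) :
    chartι (I.map φ) (φ a) (map_mem_pow I φ 1 ha) ≫ g = Spec.map (CommRingCat.ofHom χ) ≫ chartι I a ha := by
  refine lift_unique (g := Spec.map (CommRingCat.ofHom ((chartHom (I.map φ) (φ a) (map_mem_pow I φ 1 ha)).comp φ))) ?_ ?_ ?_
  · rw [CommRingCat.ofHom_comp, Spec.map_comp, Scheme.IdealSheafData.comap_comp, idealOf_comap]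
    exact isEffCartier_chart _ _ _
  · rw [CommRingCat.ofHom_comp, Spec.map_comp, Category.assoc, hg, ← Category.assoc, chartι_reesToSpec]
  · rw [Category.assoc, chartι_reesToSpec, ← Spec.map_comp, ← CommRingCat.ofHom_comp, hχ]

theorem preimage_basicOpen_proj (hφ : Function.Surjective φ)
    (g : Proj (Rees.deg (reesAlgebra (I.map φ))) ⟶ Proj (Rees.deg (reesAlgebra I)))
    (hg : g ≫ reesToSpec I = reesToSpec (I.map φ) ≫ Spec.map (CommRingCat.ofHom φ)) (a : A) (ha : a ∈ I ^ 1) :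
    g ⁻¹ᵁ Proj.basicOpen (Rees.deg (reesAlgebra I)) (mon I 1 a ha) =
      Proj.basicOpen (Rees.deg (reesAlgebra (I.map φ))) (mon (I.map φ) 1 (φ a) (map_mem_pow I φ 1 ha)) := by
  ext p
  obtain ⟨⟨bb, hbb⟩, hp⟩ := Opens.mem_iSup.1 ((iSup_chart (I.map φ)).ge (Set.mem_univ p))
  have hbb' : bb ∈ I.map φ := by simpa using hbb
  obtain ⟨b, hb, rfl⟩ := (Ideal.mem_map_iff_of_surjective φ hφ).1 hbb'
  have hb1 : b ∈ I ^ 1 := by rwa [pow_one]
  obtain ⟨χ, hχ, hχf⟩ := exists_chartMap I φ b hb1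
  obtain ⟨q, rfl⟩ : p ∈ (chartι (I.map φ) (φ b) (map_mem_pow I φ 1 hb1)).opensRange := by
    rw [Proj.opensRange_awayι]; exact hp
  show g (chartι (I.map φ) (φ b) (map_mem_pow I φ 1 hb1) q) ∈ Proj.basicOpen _ (mon I 1 a ha) ↔
    q ∈ chartι (I.map φ) (φ b) (map_mem_pow I φ 1 hb1) ⁻¹ᵁ
      Proj.basicOpen (Rees.deg (reesAlgebra (I.map φ))) (mon (I.map φ) 1 (φ a) (map_mem_pow I φ 1 ha))
  rw [← Scheme.Hom.comp_apply, chartι_comp_proj I g hg b hb1 χ hχ, Scheme.Hom.comp_apply]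
  show Spec.map (CommRingCat.ofHom χ) q ∈ chartι I b hb1 ⁻¹ᵁ Proj.basicOpen _ (mon I 1 a ha) ↔ _
  rw [Proj.awayι_preimage_basicOpen _ (mon_mem I 1 b hb1) one_pos (mon_mem I 1 a ha) one_pos,
    Proj.awayι_preimage_basicOpen _ (mon_mem (I.map φ) 1 (φ b) (map_mem_pow I φ 1 hb1)) one_pos
      (mon_mem (I.map φ) 1 (φ a) (map_mem_pow I φ 1 ha)) one_pos]
  have hel : ∀ {C : Type u} [CommRing C] (J : Ideal C) (x y : C) (hx : x ∈ J ^ 1) (hy : y ∈ J ^ 1),
      HomogeneousLocalization.Away.isLocalizationElem (mon_mem J 1 x hx) (mon_mem J 1 y hy) =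
        frac J x hx 1 y hy := by
    intro C _ J x y hx hy
    apply HomogeneousLocalization.val_injective
    rw [val_frac, HomogeneousLocalization.Away.val_mk]
    congr 1
    exact pow_one _
  rw [hel, hel, ← hχf 1 a ha]
  exact Iff.rfl

theorem isClosedImmersion_proj (hφ : Function.Surjective φ)
    (g : Proj (Rees.deg (reesAlgebra (I.map φ))) ⟶ Proj (Rees.deg (reesAlgebra I)))
    (hg : g ≫ reesToSpec I = reesToSpec (I.map φ) ≫ Spec.map (CommRingCat.ofHom φ)) :
    IsClosedImmersion g := by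
  refine isClosedImmersion_of_charts g fun p => ?_
  obtain ⟨⟨a, ha⟩, hp⟩ := Opens.mem_iSup.1 ((iSup_chart I).ge (Set.mem_univ p))
  obtain ⟨χ, hχ, hχf⟩ := exists_chartMap I φ a ha
  have hsurj : Function.Surjective χ := by
    intro z
    obtain ⟨n, c, hc, rfl⟩ := frac_surjective _ _ _ z
    have hc' : c ∈ (I ^ n).map φ := by rwa [Ideal.map_pow]
    obtain ⟨c₀, hc₀, rfl⟩ := (Ideal.mem_map_iff_of_surjective φ hφ).1 hc'
    exact ⟨_, hχf n c₀ hc₀⟩
  refine ⟨_, _, chartι I a ha, chartι (I.map φ) (φ a) (map_mem_pow I φ 1 ha), Spec.map (CommRingCat.ofHom χ),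
    inferInstance, inferInstance, IsClosedImmersion.spec_of_surjective _ hsurj, chartι_comp_proj I g hg a ha χ hχ, ?_, fun x hx => ?_⟩
  · show p ∈ (chartι I a ha).opensRange
    rw [Proj.opensRange_awayι]; exact hp
  · have hx' : x ∈ g ⁻¹ᵁ (chartι I a ha).opensRange := hx
    rw [Proj.opensRange_awayι, preimage_basicOpen_proj I hφ g hg a ha] at hx'
    show x ∈ (chartι (I.map φ) (φ a) (map_mem_pow I φ 1 ha)).opensRange
    rw [Proj.opensRange_awayι]
    exact hx'

end Affine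

section Global

variable {X Y X' Y' : Scheme.{u}}

theorem mem_range_fst {P V W Z : Scheme.{u}} {fst : P ⟶ V} {snd : P ⟶ W} {g : V ⟶ Z} {h : W ⟶ Z}
    (hpb : IsPullback fst snd g h) {w : W} (hw : h w ∈ Set.range g) : w ∈ Set.range snd := by
  obtain ⟨v, hv⟩ := hw
  obtain ⟨t, -, ht⟩ := Groth.L11.BlowSmooth.exists_preimage hpb v w hv
  exact ⟨t, ht⟩

theorem isClosedImmersion_strictTransform (I : X.IdealSheafData) (f : Y ⟶ X) [IsClosedImmersion f]
    {b : X' ⟶ X} (hb : BlowUp.IsBlowUp b I) {b' : Y' ⟶ Y} (hb' : BlowUp.IsBlowUp b' (I.comap f))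
    (f' : Y' ⟶ X') (hf' : f' ≫ b = b' ≫ f) : IsClosedImmersion f' := by
  refine isClosedImmersion_of_charts f' fun x' => ?_
  obtain ⟨_, ⟨U, hU, rfl⟩, hxU, -⟩ :=
    X.isBasis_affineOpens.exists_subset_of_mem_open (Set.mem_univ (b x')) isOpen_univ
  replace hU : IsAffineOpen U := hU
  let j : Spec (CommRingCat.of Γ(X, U)) ⟶ X := hU.fromSpec
  haveI : IsOpenImmersion j := inferInstanceAs (IsOpenImmersion hU.fromSpec)
  let J : Ideal Γ(X, U) := I.ideal ⟨U, hU⟩
  let K : Ideal Γ(X, U) := f.ker.ideal ⟨U, hU⟩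
  have hIj : I.comap j = idealOf J := Groth.L11.BlowSmooth.comap_fromSpec I ⟨U, hU⟩
  obtain ⟨q, hq, hqf, hqr⟩ := Groth.L11.BlowSmooth.exists_closed_chart f j K
    (Groth.L11.BlowSmooth.comap_fromSpec f.ker ⟨U, hU⟩)
  haveI := hq
  let φ := Ideal.Quotient.mk K
  have hJq : (I.comap f).comap q = idealOf (J.map φ) := by
    rw [← Scheme.IdealSheafData.comap_comp, hqf, Scheme.IdealSheafData.comap_comp, hIj, idealOf_comap]
  have hbX : BlowUp.IsBlowUp (reesToSpec J) (I.comap j) := hIj ▸ isBlowUp_rees J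
  have hbY : BlowUp.IsBlowUp (reesToSpec (J.map φ)) ((I.comap f).comap q) := hJq ▸ isBlowUp_rees _
  obtain ⟨kX, hkX, -⟩ := hb.2 _ (reesToSpec J ≫ j) (by
    rw [Scheme.IdealSheafData.comap_comp]; exact hbX.1)
  obtain ⟨kY, hkY, -⟩ := hb'.2 _ (reesToSpec (J.map φ) ≫ q) (by
    rw [Scheme.IdealSheafData.comap_comp]; exact hbY.1)
  have hpbX := isPullback_of_blowUps j hb hbX kX hkX
  have hpbY := isPullback_of_blowUps q hb' hbY kY hkY
  haveI : IsOpenImmersion kX := MorphismProperty.of_isPullback hpbX inferInstance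
  haveI : IsOpenImmersion kY := MorphismProperty.of_isPullback hpbY inferInstance
  have hcart : BlowUp.IsEffCartierIdeal
      ((idealOf J).comap (reesToSpec (J.map φ) ≫ Spec.map (CommRingCat.ofHom φ))) := by
    rw [Scheme.IdealSheafData.comap_comp, idealOf_comap]; exact isEffCartier_rees
  obtain ⟨g, hg, -⟩ := (isBlowUp_rees J).2 _ _ hcart
  haveI := isClosedImmersion_proj J Ideal.Quotient.mk_surjective g hg
  refine ⟨_, _, kX, kY, g, inferInstance, inferInstance, inferInstance, ?_, ?_, fun y hy => ?_⟩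
  · refine (hb.2 _ (reesToSpec (J.map φ) ≫ Spec.map (CommRingCat.ofHom φ) ≫ j) ?_).unique ?_ ?_
    · rw [← Category.assoc, Scheme.IdealSheafData.comap_comp, hIj]; exact hcart
    · show (kY ≫ f') ≫ b = _
      rw [Category.assoc, hf', reassoc_of% hkY, hqf]
    · show (g ≫ kX) ≫ b = _
      rw [Category.assoc, hkX, reassoc_of% hg]
  · exact mem_range_fst hpbX (by rw [hU.range_fromSpec]; exact hxU)
  · refine mem_range_fst hpbY (hqr (b' y) ?_)
    obtain ⟨p, hp⟩ := hy
    refine ⟨reesToSpec J p, ?_⟩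
    rw [← Scheme.Hom.comp_apply, ← hkX, Scheme.Hom.comp_apply, hp, ← Scheme.Hom.comp_apply, hf',
      Scheme.Hom.comp_apply]

end Global

end Groth.L07.BlowLib
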