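import Groth.Agent.L11.BlowSmooth.Alg
import Mathlib.RingTheory.Regular.RegularSequence
import Mathlib.RingTheory.MvPolynomial.Ideal

/-! Regular sequences cutting out strict transforms in the chart of a blow-up. -/

set_option autoImplicit false
set_option linter.style.haveILetI false
set_option maxSynthPendingDepth 3
set_option synthInstance.maxHeartbeats 400000
set_option maxHeartbeats 1600000
set_option backward.isDefEq.respectTransparency false
set_option backward.isDefEq.respectTransparency.types false

universe u

open MvPolynomial Groth.L13.BU Groth.L11.BlowSmooth RingTheory.Sequence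

namespace Groth.L07.BlowLib

section Elementwise

variable {R : Type u} [CommRing R]

/-- weak regularity of a sequence, elementwise, modulo a fixed ideal -/
def RegMod (J : Ideal R) (L : List R) : Prop :=
  ∀ (n : ℕ) (hn : n < L.length) (z : R), L[n] * z ∈ J ⊔ Ideal.ofList (L.take n) → z ∈ J ⊔ Ideal.ofList (L.take n)

theorem regMod_of_isWeaklyRegular (J : Ideal R) {L : List R} (h : IsWeaklyRegular (R ⧸ J) L) : RegMod J L := by
  intro n hn z hz
  have hmem : ∀ x : R, Ideal.Quotient.mk J x ∈ Ideal.ofList (L.take n) • (⊤ : Submodule R (R ⧸ J)) ↔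
      x ∈ J ⊔ Ideal.ofList (L.take n) := fun x => by
    rw [Ideal.smul_top_eq_map, Submodule.restrictScalars_mem]
    show Ideal.Quotient.mk J x ∈ Ideal.map (Ideal.Quotient.mk J) (Ideal.ofList (L.take n)) ↔ _
    rw [← Ideal.mem_comap, Ideal.comap_map_of_surjective _ Ideal.Quotient.mk_surjective,
      ← RingHom.ker_eq_comap_bot, Ideal.mk_ker, sup_comm]
  have h1 := h.regular_mod_prev n hn
  rw [← hmem] at hz ⊢
  rw [← Submodule.Quotient.mk_eq_zero] at hz ⊢
  refine h1 ?_
  beta_reduce
  rw [smul_zero, ← Submodule.Quotient.mk_smul]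
  refine Eq.trans ?_ hz
  congr 1

theorem isWeaklyRegular_of_regMod {L : List R} (h : RegMod ⊥ L) : IsWeaklyRegular R L := by
  refine ⟨fun n hn x y hxy => ?_⟩
  obtain ⟨a, rfl⟩ := Submodule.Quotient.mk_surjective _ x
  obtain ⟨b, rfl⟩ := Submodule.Quotient.mk_surjective _ y
  change Submodule.Quotient.mk (L[n] • a) = Submodule.Quotient.mk (L[n] • b) at hxy
  rw [Submodule.Quotient.eq] at hxy
  simp only [smul_eq_mul, ← mul_sub, Ideal.mul_top] at hxy
  rw [Submodule.Quotient.eq, smul_eq_mul, Ideal.mul_top]
  simpa using h n hn (a - b) (by simpa using hxy)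

theorem regMod_bot_of_isWeaklyRegular {L : List R} (h : IsWeaklyRegular R L) : RegMod ⊥ L := by
  intro n hn z hz
  rw [bot_sup_eq] at hz ⊢
  have h1 := h.regular_mod_prev n hn
  have hI : Ideal.ofList (L.take n) • (⊤ : Submodule R R) = Ideal.ofList (L.take n) := by
    rw [smul_eq_mul, Ideal.mul_top]
  rw [← hI] at hz ⊢
  rw [← Submodule.Quotient.mk_eq_zero] at hz ⊢
  refine h1 ?_
  beta_reduce
  rw [smul_zero, ← Submodule.Quotient.mk_smul]
  exact hz

end Elementwise

section Poly

variable {S : Type u} [CommRing S] {σ : Type} (V : Set σ) (K : Ideal S)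

/-- membership in an ideal generated by variables and constants -/
theorem mem_vars_sup_iff (P : MvPolynomial σ S) :
    P ∈ Ideal.span (X '' V) ⊔ K.map (C : S →+* MvPolynomial σ S) ↔
      ∀ d : σ →₀ ℕ, (∀ s ∈ V, d s = 0) → P.coeff d ∈ K := by
  classical
  constructor
  · intro h d hd
    obtain ⟨p, hp, q, hq, rfl⟩ := Submodule.mem_sup.1 h
    rw [coeff_add]
    refine add_mem ?_ (mem_map_C_iff.1 hq d)
    rw [mem_ideal_span_X_image] at hp
    by_cases hd0 : d ∈ p.support
    · obtain ⟨s, hs, hs'⟩ := hp d hd0
      exact absurd (hd s hs) hs'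
    · rw [notMem_support_iff.1 hd0]
      exact zero_mem _
  · intro h
    rw [P.as_sum]
    refine sum_mem fun d _ => ?_
    by_cases hd : ∀ s ∈ V, d s = 0
    · refine Ideal.mem_sup_right (mem_map_C_iff.2 fun e => ?_)
      rw [coeff_monomial]
      split_ifs with he
      · exact h d hd
      · exact zero_mem _
    · push Not at hd
      obtain ⟨s, hs, hs'⟩ := hd
      refine Ideal.mem_sup_left (mem_ideal_span_X_image.2 fun e he => ⟨s, hs, ?_⟩)
      rw [support_monomial] at he
      split_ifs at he with h0
      · simp at he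
      · rw [Finset.mem_singleton] at he
        subst he
        exact hs'

theorem vars_sup_X_regular {j : σ} (hj : j ∉ V) {P : MvPolynomial σ S}
    (h : X j * P ∈ Ideal.span (X '' V) ⊔ K.map (C : S →+* MvPolynomial σ S)) :
    P ∈ Ideal.span (X '' V) ⊔ K.map (C : S →+* MvPolynomial σ S) := by
  classical
  rw [mem_vars_sup_iff] at h ⊢
  intro d hd
  have h1 := h (Finsupp.single j 1 + d) (fun s hs => by
    have hne : j ≠ s := fun he => hj (he ▸ hs)
    simp [hd s hs, Finsupp.single_eq_of_ne hne.symm])
  rwa [coeff_X_mul] at h1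

theorem vars_sup_C_regular {c : S} (hc : ∀ z, c * z ∈ K → z ∈ K) {P : MvPolynomial σ S}
    (h : C c * P ∈ Ideal.span (X '' V) ⊔ K.map (C : S →+* MvPolynomial σ S)) :
    P ∈ Ideal.span (X '' V) ⊔ K.map (C : S →+* MvPolynomial σ S) := by
  rw [mem_vars_sup_iff] at h ⊢
  intro d hd
  have h1 := h d hd
  rw [coeff_C_mul] at h1
  exact hc _ h1

end Poly

variable {A : Type u} [CommRing A] {m : ℕ} (F : Fin m → A) (i : Fin m) (l : List {j : Fin m // j ≠ i}) (b : List A)

/-- the equations of the strict transform in the chart -/
noncomputable def strictList : List (SC F i) := l.map (fun j => sfr F i j.1) ++ b.map (sh F i)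

/-- the equations of the subscheme -/
def baseList : List A := l.map (fun j => F j.1) ++ b

theorem length_strictList : (strictList F i l b).length = l.length + b.length := by simp [strictList]

theorem length_baseList : (baseList F i l b).length = l.length + b.length := by simp [baseList]

theorem sfr_spec (j : Fin m) : sh F i (F i) * sfr F i j = sh F i (F j) :=
  (chartHom_eq (sI F) (F i) (mem_pow_one F i) (F j) (mem_pow_one F j)).symm

theorem exists_scale (n : ℕ) (h : n < (baseList F i l b).length) (h' : n < (strictList F i l b).length) :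
    ∃ s : ℕ, sh F i (F i) ^ s * (strictList F i l b)[n] = sh F i ((baseList F i l b)[n]) := by
  by_cases hn : n < l.length
  · refine ⟨1, ?_⟩
    simp only [strictList, baseList]
    rw [List.getElem_append_left (by simpa using hn), List.getElem_append_left (by simpa using hn),
      List.getElem_map, List.getElem_map, pow_one]
    exact sfr_spec F i _
  · refine ⟨0, ?_⟩
    simp only [strictList, baseList]
    rw [List.getElem_append_right (by simpa using not_lt.1 hn), List.getElem_append_right (by simpa using not_lt.1 hn),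
      List.getElem_map, pow_zero, one_mul]
    simp

theorem map_sh_take (n : ℕ) :
    (Ideal.ofList ((baseList F i l b).take n)).map (sh F i) ≤ Ideal.ofList ((strictList F i l b).take n) := by
  rw [Ideal.map_le_iff_le_comap, Ideal.ofList, Ideal.span_le]
  intro x hx
  obtain ⟨k, hk, rfl⟩ := List.mem_iff_getElem.1 hx
  rw [List.length_take] at hk
  have hkl : k < (baseList F i l b).length := lt_of_lt_of_le hk (min_le_right _ _)
  have hks : k < (strictList F i l b).length := by rwa [length_strictList, ← length_baseList F i l b]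
  obtain ⟨s, hs⟩ := exists_scale F i l b k hkl hks
  simp only [List.getElem_take, SetLike.mem_coe, Ideal.mem_comap]
  rw [← hs]
  refine Ideal.mul_mem_left _ _ (Ideal.subset_span ?_)
  exact List.mem_iff_getElem.2 ⟨k, by rw [List.length_take]; exact lt_min (lt_of_lt_of_le hk (min_le_left _ _)) hks,
    List.getElem_take⟩

theorem take_le_comap (n : ℕ) {R : Type u} [CommRing R] (χ : SC F i →+* R) (hu : IsUnit (χ (sh F i (F i)))) :
    (Ideal.ofList ((strictList F i l b).take n)).map χ ≤
      (Ideal.ofList ((baseList F i l b).take n)).map (χ.comp (sh F i)) := by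
  rw [Ideal.map_le_iff_le_comap, Ideal.ofList, Ideal.span_le]
  intro x hx
  obtain ⟨k, hk, rfl⟩ := List.mem_iff_getElem.1 hx
  rw [List.length_take] at hk
  have hks : k < (strictList F i l b).length := lt_of_lt_of_le hk (min_le_right _ _)
  have hkl : k < (baseList F i l b).length := by rwa [length_baseList, ← length_strictList F i l b]
  obtain ⟨s, hs⟩ := exists_scale F i l b k hkl hks
  simp only [List.getElem_take, SetLike.mem_coe, Ideal.mem_comap]
  rw [← Ideal.unit_mul_mem_iff_mem _ (hu.pow s)]
  rw [← map_pow, ← map_mul, hs]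
  refine Ideal.mem_map_of_mem (χ.comp (sh F i)) (Ideal.subset_span ?_)
  exact List.mem_iff_getElem.2 ⟨k, by rw [List.length_take]; exact lt_min (lt_of_lt_of_le hk (min_le_left _ _)) hkl,
    List.getElem_take⟩

/-- transfer of a membership to the base ring -/
theorem exists_pow_mul_mem (n : ℕ) {c : A} (hc : sh F i c ∈ Ideal.ofList ((strictList F i l b).take n)) :
    ∃ e : ℕ, F i ^ e * c ∈ Ideal.ofList ((baseList F i l b).take n) := by
  let K := Ideal.ofList ((baseList F i l b).take n)
  let L := Localization.Away (Ideal.Quotient.mk K (F i))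
  let φ : A →+* L := (algebraMap (A ⧸ K) L).comp (Ideal.Quotient.mk K)
  have hu : IsUnit (φ (F i)) := IsLocalization.Away.algebraMap_isUnit (Ideal.Quotient.mk K (F i))
  obtain ⟨χ, hχ⟩ := exists_chart_lift (sI F) (F i) (mem_pow_one F i) φ hu.mem_nonZeroDivisors fun x _ => hu.dvd
  have hχ' : χ.comp (sh F i) = φ := hχ
  have hu' : IsUnit (χ (sh F i (F i))) := by rw [← RingHom.comp_apply, hχ']; exact hu
  have h1 := take_le_comap F i l b n χ hu' (Ideal.mem_map_of_mem χ hc)
  rw [hχ', ← RingHom.comp_apply, hχ'] at h1
  have h2 : K.map φ = ⊥ := by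
    rw [← Ideal.map_map, Ideal.map_quotient_self, Ideal.map_bot]
  have h3 : φ c = 0 := by
    have h4 : φ c ∈ K.map φ := h1
    rwa [h2, Ideal.mem_bot] at h4
  obtain ⟨⟨_, e, rfl⟩, he⟩ := (IsLocalization.map_eq_zero_iff (Submonoid.powers (Ideal.Quotient.mk K (F i))) L
    (Ideal.Quotient.mk K c)).1 h3
  exact ⟨e, Ideal.Quotient.eq_zero_iff_mem.1 (by rw [map_mul, map_pow]; exact he)⟩

variable (hF : CAlgX.IsQuasiRegular F) (hl : l.Nodup) (hG : RegMod ⊥ (baseList F i l b)) (hb : RegMod (sI F) b)

include hF hl hb in
/-- modulo the exceptional equation the strict equations are regular -/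
theorem regular_mod_exceptional (n : ℕ) (hn : n < (strictList F i l b).length) (w : SC F i)
    (hw : (strictList F i l b)[n] * w ∈ (sI F).map (sh F i) ⊔ Ideal.ofList ((strictList F i l b).take n)) :
    w ∈ (sI F).map (sh F i) ⊔ Ideal.ofList ((strictList F i l b).take n) := by
  classical
  let E := (sI F).map (sh F i)
  let q := Ideal.Quotient.mk (sI F)
  let V : Set {j : Fin m // j ≠ i} := {j | j ∈ l.take n}
  let K : Ideal (A ⧸ sI F) := (Ideal.ofList (b.take (n - l.length))).map q
  let pr := pres F i
  have hbij : Function.Bijective pr := ⟨pres_injective F i hF, pres_surjective F i⟩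
  have hX : ∀ j : {j : Fin m // j ≠ i}, pr (X j) = Ideal.Quotient.mk E (sfr F i j.1) := fun j => by simp [pr, pres, E]
  have hC : ∀ r : A, pr (C (q r)) = Ideal.Quotient.mk E (sh F i r) := fun r => by simp [pr, pres, E, q]
  have hJ : (Ideal.span (X '' V) ⊔ K.map C).map pr =
      (Ideal.ofList ((strictList F i l b).take n)).map (Ideal.Quotient.mk E) := by
    simp only [strictList, List.take_append, List.length_map, Ideal.ofList_append, Ideal.map_sup]
    congr 1
    · rw [← List.map_take, Ideal.ofList]
      refine (Ideal.map_span pr _).trans ((congrArg Ideal.span ?_).trans (Ideal.map_span (Ideal.Quotient.mk E) _).symm)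
      ext x
      simp only [Set.mem_image, List.mem_map]
      constructor
      · rintro ⟨_, ⟨j, hj, rfl⟩, rfl⟩
        exact ⟨sfr F i j.1, ⟨j, hj, rfl⟩, (hX j).symm⟩
      · rintro ⟨_, ⟨j, hj, rfl⟩, rfl⟩
        exact ⟨X j, ⟨j, hj, rfl⟩, hX j⟩
    · rw [← List.map_take, ← Ideal.map_ofList, Ideal.map_map, Ideal.map_map, Ideal.map_map]
      congr 1
      exact RingHom.ext hC
  obtain ⟨P, hP⟩ := hbij.2 (Ideal.Quotient.mk E w)
  have key : P ∈ Ideal.span (X '' V) ⊔ K.map C := by
    obtain ⟨e, he, f, hf, hsum⟩ := Submodule.mem_sup.1 hw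
    have hmem : Ideal.Quotient.mk E ((strictList F i l b)[n] * w) ∈
        (Ideal.ofList ((strictList F i l b).take n)).map (Ideal.Quotient.mk E) := by
      rw [← hsum, map_add, Ideal.Quotient.eq_zero_iff_mem.2 he, zero_add]
      exact Ideal.mem_map_of_mem _ hf
    rw [← hJ] at hmem
    have back : ∀ Q, pr Q ∈ (Ideal.span (X '' V) ⊔ K.map C).map pr → Q ∈ Ideal.span (X '' V) ⊔ K.map C := fun Q hQ => by
      obtain ⟨Q', hQ', he'⟩ := (Ideal.mem_map_iff_of_surjective pr hbij.2).1 hQ
      rwa [← hbij.1 he']
    by_cases hnl : n < l.length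
    · have he' : (strictList F i l b)[n] = sfr F i (l[n]).1 := by
        simp only [strictList]
        rw [List.getElem_append_left (by simpa using hnl), List.getElem_map]
      rw [he', map_mul, ← hX, ← hP, ← map_mul] at hmem
      refine vars_sup_X_regular V K (fun hj => ?_) (back _ hmem)
      obtain ⟨k, hk, hk'⟩ := List.mem_iff_getElem.1 hj
      rw [List.length_take] at hk
      rw [List.getElem_take] at hk'
      exact absurd (hl.getElem_inj_iff.1 hk') (by omega)
    · have hlen : n - l.length < b.length := by rw [length_strictList] at hn; omega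
      have he' : (strictList F i l b)[n] = sh F i (b[n - l.length]) := by
        simp only [strictList]
        rw [List.getElem_append_right (by simpa using not_lt.1 hnl), List.getElem_map]
        simp
      rw [he', map_mul, ← hC, ← hP, ← map_mul] at hmem
      refine vars_sup_C_regular V K (fun z hz => ?_) (back _ hmem)
      obtain ⟨z, rfl⟩ := Ideal.Quotient.mk_surjective z
      rw [← map_mul] at hz
      have hz' : b[n - l.length] * z ∈ sI F ⊔ Ideal.ofList (b.take (n - l.length)) := by
        rw [sup_comm, ← Ideal.mk_ker (I := sI F), RingHom.ker_eq_comap_bot,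
          ← Ideal.comap_map_of_surjective _ Ideal.Quotient.mk_surjective]
        exact hz
      have h2 := hb _ hlen z hz'
      obtain ⟨u, hu, v, hv, huv⟩ := Submodule.mem_sup.1 h2
      rw [← huv, map_add, Ideal.Quotient.eq_zero_iff_mem.2 hu, zero_add]
      exact Ideal.mem_map_of_mem _ hv
  have h5 : Ideal.Quotient.mk E w ∈ (Ideal.ofList ((strictList F i l b).take n)).map (Ideal.Quotient.mk E) := by
    rw [← hP, ← hJ]; exact Ideal.mem_map_of_mem _ key
  rw [← Ideal.mem_comap, Ideal.comap_map_of_surjective _ Ideal.Quotient.mk_surjective, ← RingHom.ker_eq_comap_bot,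
    Ideal.mk_ker, sup_comm] at h5
  exact h5

include hF hl hG hb in
theorem regular_step : ∀ n ≤ (strictList F i l b).length,
    (∀ z, sh F i (F i) * z ∈ Ideal.ofList ((strictList F i l b).take n) → z ∈ Ideal.ofList ((strictList F i l b).take n)) ∧
    ∀ k < n, ∀ hk : k < (strictList F i l b).length, ∀ z, (strictList F i l b)[k] * z ∈
      Ideal.ofList ((strictList F i l b).take k) → z ∈ Ideal.ofList ((strictList F i l b).take k) := by
  intro n
  induction n with
  | zero =>
    refine fun _ => ⟨fun z hz => ?_, fun k hk => absurd hk (Nat.not_lt_zero k)⟩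
    rw [List.take_zero, Ideal.ofList_nil, Ideal.mem_bot] at hz ⊢
    exact (chartHom_nonZeroDivisor (sI F) (F i) (mem_pow_one F i)).1 z hz
  | succ n ih =>
    intro hn
    obtain ⟨hP, hQ⟩ := ih (Nat.le_of_succ_le hn)
    have hn' : n < (strictList F i l b).length := hn
    have hpow : ∀ e z, sh F i (F i) ^ e * z ∈ Ideal.ofList ((strictList F i l b).take n) →
        z ∈ Ideal.ofList ((strictList F i l b).take n) := by
      intro e
      induction e with
      | zero => intro z hz; simpa using hz
      | succ e ihe => intro z hz; exact ihe z (hP _ (by rwa [← mul_assoc, ← pow_succ']))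
    have hQn : ∀ z, (strictList F i l b)[n] * z ∈ Ideal.ofList ((strictList F i l b).take n) →
        z ∈ Ideal.ofList ((strictList F i l b).take n) := by
      intro z hz
      obtain ⟨p, c, hc, rfl⟩ := frac_surjective (sI F) (F i) (mem_pow_one F i) z
      have hnb : n < (baseList F i l b).length := by rwa [length_baseList, ← length_strictList F i l b]
      obtain ⟨s, hs⟩ := exists_scale F i l b n hnb hn'
      have h1 : sh F i ((baseList F i l b)[n] * c) ∈ Ideal.ofList ((strictList F i l b).take n) := by
        rw [map_mul, ← hs, show sh F i c = sh F i (F i) ^ p * frac (sI F) (F i) (mem_pow_one F i) p c hc from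
          (pow_mul_frac (sI F) (F i) (mem_pow_one F i) p c hc).symm,
          mul_mul_mul_comm]
        exact Ideal.mul_mem_left _ _ hz
      obtain ⟨e, he⟩ := exists_pow_mul_mem F i l b n h1
      have h2 : F i ^ e * c ∈ Ideal.ofList ((baseList F i l b).take n) := by
        simpa using hG n hnb (F i ^ e * c) (by simpa [mul_left_comm] using he)
      have h3 := map_sh_take F i l b n (Ideal.mem_map_of_mem (sh F i) h2)
      rw [map_mul, map_pow, show sh F i c = sh F i (F i) ^ p * frac (sI F) (F i) (mem_pow_one F i) p c hc from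
          (pow_mul_frac (sI F) (F i) (mem_pow_one F i) p c hc).symm, ← mul_assoc, ← pow_add] at h3
      exact hpow _ _ h3
    refine ⟨fun z hz => ?_, fun k hk hkl z hz => ?_⟩
    · rw [List.take_succ_eq_append_getElem hn', Ideal.ofList_append, Ideal.ofList_singleton] at hz ⊢
      obtain ⟨s, hs, t, ht, hst⟩ := Submodule.mem_sup.1 hz
      obtain ⟨w, rfl⟩ := Ideal.mem_span_singleton.1 ht
      have hE : (sI F).map (sh F i) = Ideal.span {sh F i (F i)} := map_ideal (sI F) (F i) (mem_pow_one F i)
      have h1 : w ∈ (sI F).map (sh F i) ⊔ Ideal.ofList ((strictList F i l b).take n) := by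
        refine regular_mod_exceptional F i l b hF hl hb n hn' w ?_
        rw [show (strictList F i l b)[n] * w = sh F i (F i) * z - s by rw [← hst]; ring, hE]
        exact sub_mem (Ideal.mem_sup_left (Ideal.mul_mem_right _ _ (Ideal.mem_span_singleton_self _)))
          (Ideal.mem_sup_right hs)
      rw [hE] at h1
      obtain ⟨u, hu, v, hv, rfl⟩ := Submodule.mem_sup.1 h1
      obtain ⟨u, rfl⟩ := Ideal.mem_span_singleton.1 hu
      have h2 : z - (strictList F i l b)[n] * u ∈ Ideal.ofList ((strictList F i l b).take n) := by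
        refine hP _ ?_
        rw [show sh F i (F i) * (z - (strictList F i l b)[n] * u) = s + (strictList F i l b)[n] * v by
          rw [mul_sub, ← hst]; ring]
        exact add_mem hs (Ideal.mul_mem_left _ _ hv)
      rw [show z = (z - (strictList F i l b)[n] * u) + (strictList F i l b)[n] * u by ring]
      exact Submodule.add_mem_sup h2 (Ideal.mul_mem_right _ _ (Ideal.mem_span_singleton_self _))
    · rcases Nat.lt_succ_iff_lt_or_eq.1 hk with h | rfl
      · exact hQ k h hkl z hz
      · exact hQn z hz

include hF hl hG hb in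
/-- the strict equations form a weakly regular sequence -/
theorem isWeaklyRegular_strictList : IsWeaklyRegular (SC F i) (strictList F i l b) := by
  refine isWeaklyRegular_of_regMod fun n hn z hz => ?_
  rw [bot_sup_eq] at hz ⊢
  exact (regular_step F i l b hF hl hG hb (strictList F i l b).length le_rfl).2 n hn hn z hz

include hF hl hG hb in
/-- and they cut out the kernel of any map of the chart which detects the subscheme up to torsion -/
theorem ker_eq_ofList {R : Type u} [CommRing R] (ψ : SC F i →+* R) (h0 : ∀ x ∈ strictList F i l b, ψ x = 0)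
    (hker : ∀ c, ψ (sh F i c) = 0 → ∃ e : ℕ, F i ^ e * c ∈ Ideal.ofList (baseList F i l b)) :
    RingHom.ker ψ = Ideal.ofList (strictList F i l b) := by
  refine le_antisymm (fun z hz => ?_) (Ideal.span_le.2 fun x hx => h0 x hx)
  rw [RingHom.mem_ker] at hz
  obtain ⟨p, c, hc, rfl⟩ := frac_surjective (sI F) (F i) (mem_pow_one F i) z
  have hp : sh F i c = sh F i (F i) ^ p * frac (sI F) (F i) (mem_pow_one F i) p c hc :=
    (pow_mul_frac (sI F) (F i) (mem_pow_one F i) p c hc).symm
  obtain ⟨e, he⟩ := hker c (by rw [hp, map_mul, hz, mul_zero])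
  have hlen : (strictList F i l b).length = (baseList F i l b).length := by rw [length_strictList, length_baseList]
  have h3 := map_sh_take F i l b (baseList F i l b).length (Ideal.mem_map_of_mem (sh F i) (by rwa [List.take_length]))
  rw [map_mul, map_pow, hp, ← mul_assoc, ← pow_add] at h3
  have hP := (regular_step F i l b hF hl hG hb _ le_rfl).1
  rw [List.take_length] at hP
  rw [← hlen, List.take_length] at h3
  clear he
  revert h3
  generalize e + p = q
  induction q with
  | zero => intro h; simpa using h
  | succ q ih => intro h; exact ih (hP _ (by rwa [← mul_assoc, ← pow_succ']))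

end Groth.L07.BlowLib
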