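import Groth.Agent.L07.BlowLib.Closed
import Groth.Agent.L07.BlowLib.StrictAlg
import Groth.Prelude.Def_RegImm

/-! Strict transforms of regular immersions are regular immersions. -/

set_option autoImplicit false
set_option linter.style.haveILetI false
set_option maxSynthPendingDepth 3
set_option synthInstance.maxHeartbeats 400000
set_option maxHeartbeats 8000000
set_option backward.isDefEq.respectTransparency false
set_option backward.isDefEq.respectTransparency.types false

universe u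

open CategoryTheory CategoryTheory.Limits AlgebraicGeometry TopologicalSpace Opposite

namespace Groth.L07.BlowLib

open Groth.L13.BU Groth.L22 Groth.L11.BlowSmooth

theorem regMod_bot_map {R S : Type u} [CommRing R] [CommRing S] (e : R ≃+* S) {L : List R} (h : RegMod ⊥ L) :
    RegMod ⊥ (L.map e) := by
  intro n hn z hz
  rw [List.length_map] at hn
  obtain ⟨z, rfl⟩ := e.surjective z
  have hm : ∀ M : List R, Ideal.ofList (M.map e) = (Ideal.ofList M).map (e : R →+* S) := fun M =>
    (Ideal.map_ofList (e : R →+* S) M).symm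
  rw [List.getElem_map, ← List.map_take, ← map_mul, bot_sup_eq, hm] at hz
  rw [← List.map_take, bot_sup_eq, hm]
  have hinj : ∀ (J : Ideal R) (x : R), e x ∈ J.map (e : R →+* S) → x ∈ J := fun J x hx => by
    obtain ⟨y, hy, hy'⟩ := (Ideal.mem_map_iff_of_surjective (e : R →+* S) e.surjective).1 hx
    rwa [← e.injective hy']
  exact Ideal.mem_map_of_mem (e : R →+* S) (by simpa using h n hn z (by simpa using hinj _ _ hz))

variable {X Y X' Y' : Scheme.{u}}

theorem apply_comm {A B C D : Scheme.{u}} {a : A ⟶ B} {b : B ⟶ D} {c : A ⟶ C} {d : C ⟶ D} (h : a ≫ b = c ≫ d)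
    (x : A) : b (a x) = d (c x) := by
  rw [← Scheme.Hom.comp_apply, h, Scheme.Hom.comp_apply]

/-- a closed immersion with a regular presentation on a chart -/
theorem regularAt_of_chart {C R : Type u} [CommRing C] [CommRing R] (f' : Y' ⟶ X') [IsClosedImmersion f']
    (χ : C →+* R) (hsurj : Function.Surjective χ) (jX : Spec (CommRingCat.of C) ⟶ X') [IsOpenImmersion jX]
    (jY : Spec (CommRingCat.of R) ⟶ Y') [IsOpenImmersion jY]
    (hsq : jY ≫ f' = Spec.map (CommRingCat.ofHom χ) ≫ jX) (hpre : f' ⁻¹ᵁ jX.opensRange = jY.opensRange)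
    (L : List C) (hker : RingHom.ker χ = Ideal.ofList L) (hreg : RingTheory.Sequence.IsWeaklyRegular C L)
    (r : Spec (CommRingCat.of R)) :
    ∃ W : X'.affineOpens, f' (jY r) ∈ W.1 ∧ IsClosedImmersion (f' ∣_ W.1) ∧
      ∃ rs : List Γ(X', W.1), rs.length = L.length ∧ RingTheory.Sequence.IsRegular Γ(X', W.1) rs ∧
        RingHom.ker (f'.app W.1).hom = Ideal.ofList rs := by
  have hpb := IsOpenImmersion.isPullback (Spec.map (CommRingCat.ofHom χ)) jY jX f' hsq hpre
  haveI : IsClosedImmersion (Spec.map (CommRingCat.ofHom χ)) := IsClosedImmersion.spec_of_surjective _ hsurj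
  let W : X'.affineOpens := ⟨jX ''ᵁ ⊤, (isAffineOpen_top _).image_of_isOpenImmersion jX⟩
  have hW : W.1 = jX.opensRange := Scheme.Hom.image_top_eq_opensRange jX
  let ee : C ≃+* Γ(X', W.1) :=
    ((Scheme.ΓSpecIso (CommRingCat.of C)).symm ≪≫ (jX.appIso ⊤).symm).commRingCatIsoToRingEquiv
  have hkW : RingHom.ker (f'.app W.1).hom = Ideal.map (ee : C →+* Γ(X', W.1)) (RingHom.ker χ) := by
    have h1 : f'.ker.comap jX = idealOf (RingHom.ker χ) := by
      rw [← Scheme.IdealSheafData.ker_fst_of_isClosedImmersion, ← hpb.isoPullback_inv_fst,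
        Scheme.Hom.ker_comp_of_isIso]
      refine Scheme.IdealSheafData.ext_of_isAffine ?_
      rw [idealOf_top, Scheme.Hom.ker_apply]
      show RingHom.ker ((Spec.map (CommRingCat.ofHom χ)).app ⊤).hom = _
      ext x
      obtain ⟨x, rfl⟩ := (Scheme.ΓSpecIso (CommRingCat.of C)).symm.commRingCatIsoToRingEquiv.surjective x
      rw [RingHom.mem_ker]
      show (Spec.map (CommRingCat.ofHom χ)).app ⊤ ((Scheme.ΓSpecIso _).inv x) = 0 ↔ _
      rw [← CommRingCat.comp_apply, ← Scheme.ΓSpecIso_inv_naturality, CommRingCat.comp_apply]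
      constructor
      · intro h
        refine Ideal.mem_map_of_mem _ ?_
        rw [RingHom.mem_ker]
        exact (Scheme.ΓSpecIso (CommRingCat.of R)).symm.commRingCatIsoToRingEquiv.map_eq_zero_iff.1 h
      · intro h
        obtain ⟨y, hy, hy'⟩ := (Ideal.mem_map_iff_of_surjective _
          (Scheme.ΓSpecIso (CommRingCat.of C)).symm.commRingCatIsoToRingEquiv.surjective).1 h
        rw [← (Scheme.ΓSpecIso (CommRingCat.of C)).symm.commRingCatIsoToRingEquiv.injective hy']
        show (Scheme.ΓSpecIso (CommRingCat.of R)).inv (χ y) = 0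
        rw [RingHom.mem_ker.1 hy, map_zero]
    have h2 : (f'.ker.comap jX).ideal ⟨⊤, isAffineOpen_top _⟩ = (f'.ker.ideal W).comap (jX.appIso ⊤).inv.hom :=
      Scheme.IdealSheafData.ideal_comap_of_isOpenImmersion _ _ _
    rw [h1, idealOf_top] at h2
    have h3 := congrArg (Ideal.map (jX.appIso ⊤).inv.hom) h2
    rw [Ideal.map_comap_of_surjective (jX.appIso ⊤).inv.hom (jX.appIso ⊤).symm.commRingCatIsoToRingEquiv.surjective,
      Ideal.map_map] at h3
    rw [← Scheme.Hom.ker_apply, ← h3]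
    rfl
  refine ⟨W, ?_, ?_, L.map ee, List.length_map _, ⟨?_, ?_⟩, ?_⟩
  · rw [hW]
    refine ⟨Spec.map (CommRingCat.ofHom χ) r, ?_⟩
    rw [← Scheme.Hom.comp_apply, ← hsq, Scheme.Hom.comp_apply]
  · rw [hW]
    refine ((MorphismProperty.arrow_mk_iso_iff @IsClosedImmersion (morphismRestrictOpensRange f' jX))).2 ?_
    show IsClosedImmersion (pullback.snd f' jX)
    rw [← pullbackSymmetry_hom_comp_fst, ← hpb.isoPullback_inv_fst]
    infer_instance
  · exact isWeaklyRegular_of_regMod (regMod_bot_map ee (regMod_bot_of_isWeaklyRegular hreg))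
  · rw [smul_eq_mul, Ideal.mul_top]
    intro htop
    have hm : (Ideal.ofList L).map (ee : C →+* Γ(X', W.1)) = Ideal.ofList (L.map ee) := Ideal.map_ofList _ _
    rw [← hm, ← hker] at htop
    have h6 : χ 1 = 0 := by
      have h5 : (ee : C →+* Γ(X', W.1)) 1 ∈ (RingHom.ker χ).map (ee : C →+* Γ(X', W.1)) := htop ▸ Submodule.mem_top
      obtain ⟨y, hy, hy'⟩ := (Ideal.mem_map_iff_of_surjective (ee : C →+* Γ(X', W.1)) ee.surjective).1 h5
      exact ee.injective hy' ▸ hy
    rw [map_one] at h6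
    haveI : Nontrivial R := PrimeSpectrum.nontrivial r
    exact one_ne_zero h6
  · rw [hkW, hker]
    exact Ideal.map_ofList (ee : C →+* Γ(X', W.1)) L

/-- regularity of the strict transform over a chart of the base -/
theorem regularAt_strictTransform (𝓘 : X.IdealSheafData) (f : Y ⟶ X) [IsClosedImmersion f]
    {b : X' ⟶ X} (hb : BlowUp.IsBlowUp b 𝓘) {b' : Y' ⟶ Y} (hb' : BlowUp.IsBlowUp b' (𝓘.comap f))
    (f' : Y' ⟶ X') (hf' : f' ≫ b = b' ≫ f) (U : X.affineOpens) {m : ℕ} (F : Fin m → Γ(X, U.1))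
    (hI : 𝓘.ideal U = sI F) (hF : CAlgX.IsQuasiRegular F) (l : List (Fin m)) (hl : l.Nodup) (b₀ : List Γ(X, U.1))
    (hK : f.ker.ideal U = Ideal.ofList (l.map F ++ b₀)) (hG : RegMod ⊥ (l.map F ++ b₀))
    (hb₀ : RegMod (sI F) b₀) (y' : Y') (hy : b (f' y') ∈ U.1) :
    ∃ W : X'.affineOpens, f' y' ∈ W.1 ∧ IsClosedImmersion (f' ∣_ W.1) ∧
      ∃ rs : List Γ(X', W.1), rs.length = l.length + b₀.length ∧ RingTheory.Sequence.IsRegular Γ(X', W.1) rs ∧
        RingHom.ker (f'.app W.1).hom = Ideal.ofList rs := by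
  classical
  haveI := isClosedImmersion_strictTransform 𝓘 f hb hb' f' hf'
  let j : Spec (CommRingCat.of Γ(X, U.1)) ⟶ X := U.2.fromSpec
  haveI : IsOpenImmersion j := inferInstanceAs (IsOpenImmersion U.2.fromSpec)
  let J : Ideal Γ(X, U.1) := sI F
  let K : Ideal Γ(X, U.1) := f.ker.ideal U
  let φ := Ideal.Quotient.mk K
  have hIj : 𝓘.comap j = idealOf J := by
    show 𝓘.comap U.2.fromSpec = _
    rw [comap_fromSpec, hI]
  obtain ⟨q, hq, hqf, hqr⟩ := exists_closed_chart f j K (comap_fromSpec f.ker U)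
  haveI := hq
  have hJq : (𝓘.comap f).comap q = idealOf (J.map φ) := by
    rw [← Scheme.IdealSheafData.comap_comp, hqf, Scheme.IdealSheafData.comap_comp, hIj, idealOf_comap]
  have hbX : BlowUp.IsBlowUp (reesToSpec J) (𝓘.comap j) := hIj ▸ isBlowUp_rees J
  have hbY : BlowUp.IsBlowUp (reesToSpec (J.map φ)) ((𝓘.comap f).comap q) := hJq ▸ isBlowUp_rees _
  obtain ⟨kX, hkX, -⟩ := hb.2 _ (reesToSpec J ≫ j) (by
    rw [Scheme.IdealSheafData.comap_comp]; exact hbX.1)
  obtain ⟨kY, hkY, -⟩ := hb'.2 _ (reesToSpec (J.map φ) ≫ q) (by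
    rw [Scheme.IdealSheafData.comap_comp]; exact hbY.1)
  have hpbX := isPullback_of_blowUps j hb hbX kX hkX
  have hpbY := isPullback_of_blowUps q hb' hbY kY hkY
  haveI : IsOpenImmersion kX := MorphismProperty.of_isPullback hpbX inferInstance
  haveI : IsOpenImmersion kY := MorphismProperty.of_isPullback hpbY inferInstance
  have hcart : BlowUp.IsEffCartierIdeal
      ((idealOf J).comap (reesToSpec (J.map φ) ≫ Spec.map (CommRingCat.ofHom φ))) := by
    rw [Scheme.IdealSheafData.comap_comp, idealOf_comap]; exact isEffCartier_rees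
  obtain ⟨g, hg, -⟩ := (isBlowUp_rees J).2 _ _ hcart
  have hsq : kY ≫ f' = g ≫ kX := by
    refine (hb.2 _ (reesToSpec (J.map φ) ≫ Spec.map (CommRingCat.ofHom φ) ≫ j) ?_).unique ?_ ?_
    · rw [← Category.assoc, Scheme.IdealSheafData.comap_comp, hIj]; exact hcart
    · show (kY ≫ f') ≫ b = _
      rw [Category.assoc, hf', reassoc_of% hkY, hqf]
    · show (g ≫ kX) ≫ b = _
      rw [Category.assoc, hkX, reassoc_of% hg]
  have hrangeY : ∀ y : Y', b (f' y) ∈ U.1 → y ∈ Set.range kY := fun y hy => by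
    refine mem_range_fst hpbY (hqr (b' y) ?_)
    rw [← Scheme.Hom.comp_apply, ← hf', Scheme.Hom.comp_apply]
    show _ ∈ Set.range U.2.fromSpec
    rw [U.2.range_fromSpec]
    exact hy
  obtain ⟨p, rfl⟩ := hrangeY y' hy
  obtain ⟨⟨a₀, ha₀⟩, hpa⟩ := Opens.mem_iSup.1 ((iSup_chart J).ge (Set.mem_univ (g p)))
  obtain ⟨i, hi⟩ : ∃ i : Fin m, g p ∈ Proj.basicOpen (Rees.deg (reesAlgebra J))
      (mon J 1 (F i) (mem_pow_one F i)) := by
    by_contra hall
    push Not at hall
    simp only [Proj.mem_basicOpen, not_not] at hall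
    rw [Proj.mem_basicOpen] at hpa
    apply hpa
    obtain ⟨r, hr⟩ := Ideal.mem_span_range_iff_exists_fun.1
      (by simpa using ha₀ : a₀ ∈ Ideal.span (Set.range F))
    have he : mon J 1 a₀ ha₀ = ∑ i, r i • mon J 1 (F i) (mem_pow_one F i) := by
      apply Subtype.ext
      subst hr
      simp [mon, map_sum, Polynomial.smul_monomial]
    rw [he]
    refine Ideal.sum_mem _ fun i _ => ?_
    rw [Algebra.smul_def]
    exact Ideal.mul_mem_left _ _ (hall i)
  have hφ : Function.Surjective φ := Ideal.Quotient.mk_surjective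
  have hp : p ∈ Proj.basicOpen (Rees.deg (reesAlgebra (J.map φ)))
      (mon (J.map φ) 1 (φ (F i)) (map_mem_pow J φ 1 (mem_pow_one F i))) := by
    rw [← preimage_basicOpen_proj J hφ g hg]; exact hi
  have hil : ∀ x ∈ l, x ≠ i := by
    rintro x hx rfl
    have h0 : φ (F x) = 0 := Ideal.Quotient.eq_zero_iff_mem.2 (by
      show F x ∈ f.ker.ideal U
      rw [hK]
      exact Ideal.subset_span (List.mem_append_left _ (List.mem_map_of_mem hx)))
    have h1 : mon (J.map φ) 1 (φ (F x)) (map_mem_pow J φ 1 (mem_pow_one F x)) = 0 :=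
      Subtype.ext (by show Polynomial.monomial 1 (φ (F x)) = 0; rw [h0, map_zero])
    rw [Proj.mem_basicOpen, h1] at hp
    exact hp (zero_mem _)
  let l' : List {x : Fin m // x ≠ i} := l.pmap (fun x h => ⟨x, h⟩) hil
  have hl' : l'.map Subtype.val = l := by simp [l', List.map_pmap]
  have hlnd : l'.Nodup := List.Nodup.of_map Subtype.val (by rw [hl']; exact hl)
  have hbase : baseList F i l' b₀ = l.map F ++ b₀ := by
    rw [baseList]
    congr 1
    conv_rhs => rw [← hl', List.map_map]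
    rfl
  obtain ⟨χ, hχ, hχf⟩ := exists_chartMap J φ (F i) (mem_pow_one F i)
  have hsurj : Function.Surjective χ := by
    intro z
    obtain ⟨n, c, hc, rfl⟩ := frac_surjective _ _ _ z
    have hc' : c ∈ (J ^ n).map φ := by rwa [Ideal.map_pow]
    obtain ⟨c₀, hc₀, rfl⟩ := (Ideal.mem_map_iff_of_surjective φ hφ).1 hc'
    exact ⟨_, hχf n c₀ hc₀⟩
  let R := Chart (J.map φ) (φ (F i)) (map_mem_pow J φ 1 (mem_pow_one F i))
  let jX : Spec (CommRingCat.of (SC F i)) ⟶ X' := chartι J (F i) (mem_pow_one F i) ≫ kX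
  let jY : Spec (CommRingCat.of R) ⟶ Y' := chartι (J.map φ) (φ (F i)) (map_mem_pow J φ 1 (mem_pow_one F i)) ≫ kY
  have hsq' : jY ≫ f' = Spec.map (CommRingCat.ofHom χ) ≫ jX := by
    rw [Category.assoc, hsq, ← Category.assoc, chartι_comp_proj J g hg (F i) (mem_pow_one F i) χ hχ, Category.assoc]
  obtain ⟨r, hr⟩ : p ∈ (chartι (J.map φ) (φ (F i)) (map_mem_pow J φ 1 (mem_pow_one F i))).opensRange := by
    rw [Proj.opensRange_awayι]; exact hp
  have hpre : f' ⁻¹ᵁ jX.opensRange = jY.opensRange := by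
    refine Opens.ext (Set.Subset.antisymm (fun x hx => ?_) ?_)
    · obtain ⟨s, hs⟩ := hx
      have hbx : b (f' x) ∈ U.1 := by
        rw [← hs, ← Scheme.Hom.comp_apply]
        show (jX ≫ b) s ∈ U.1
        rw [Category.assoc, hkX, ← Category.assoc, Scheme.Hom.comp_apply]
        show _ ∈ (U.1 : Set X)
        rw [← U.2.range_fromSpec]
        exact ⟨_, rfl⟩
      obtain ⟨x₀, rfl⟩ := hrangeY x hbx
      have h1 : g x₀ = chartι J (F i) (mem_pow_one F i) s := kX.isOpenEmbedding.injective (by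
        rw [← Scheme.Hom.comp_apply, ← hsq, Scheme.Hom.comp_apply]; exact hs.symm)
      have h2 : x₀ ∈ g ⁻¹ᵁ Proj.basicOpen (Rees.deg (reesAlgebra J)) (mon J 1 (F i) (mem_pow_one F i)) := by
        rw [← Proj.opensRange_awayι (Rees.deg (reesAlgebra J)) (mon J 1 (F i) (mem_pow_one F i)) (mon_mem J 1 (F i) (mem_pow_one F i)) one_pos]
        exact ⟨s, h1.symm⟩
      rw [preimage_basicOpen_proj J hφ g hg] at h2
      obtain ⟨t, ht⟩ : x₀ ∈ (chartι (J.map φ) (φ (F i)) (map_mem_pow J φ 1 (mem_pow_one F i))).opensRange := by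
        rw [Proj.opensRange_awayι]; exact h2
      exact ⟨t, congrArg kY ht⟩
    · rintro _ ⟨t, rfl⟩
      exact ⟨Spec.map (CommRingCat.ofHom χ) t, (apply_comm hsq' t).symm⟩
  -- the kernel on the chart
  have hkerχ : RingHom.ker χ = Ideal.ofList (strictList F i l' b₀) := by
    refine ker_eq_ofList F i l' b₀ hF hlnd (by rw [hbase]; exact hG) hb₀ χ (fun x hx => ?_) (fun c hc => ?_)
    · have hzero : ∀ c ∈ l.map F ++ b₀, φ c = 0 := fun c hc => Ideal.Quotient.eq_zero_iff_mem.2 (by
        show c ∈ f.ker.ideal U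
        rw [hK]
        exact Ideal.subset_span hc)
      rw [strictList, List.mem_append, List.mem_map, List.mem_map] at hx
      rcases hx with ⟨x, hx, rfl⟩ | ⟨c, hc, rfl⟩
      · rw [show χ (sfr F i x.1) = _ from hχf 1 (F x.1) (mem_pow_one F x.1)]
        refine frac_eq_zero _ _ _ _ (k := 0) ?_
        rw [pow_zero, one_mul]
        exact hzero _ (List.mem_append_left _ (List.mem_map_of_mem (by rw [← hl']; exact List.mem_map_of_mem hx)))
      · have h1 : χ (sh F i c) = chartHom (J.map φ) (φ (F i)) (map_mem_pow J φ 1 (mem_pow_one F i)) (φ c) :=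
          congrArg (fun h : _ →+* R => h c) hχ
        rw [h1, hzero c (List.mem_append_right _ hc), map_zero]
    · have h1 : χ (sh F i c) = chartHom (J.map φ) (φ (F i)) (map_mem_pow J φ 1 (mem_pow_one F i)) (φ c) :=
        congrArg (fun h : _ →+* R => h c) hχ
      rw [h1, chartHom_apply] at hc
      obtain ⟨e, he⟩ := of_frac_eq_zero _ _ _ _ hc
      refine ⟨e, ?_⟩
      rw [hbase, ← hK]
      exact Ideal.Quotient.eq_zero_iff_mem.1 (by rw [map_mul, map_pow]; exact he)
  have hfin := regularAt_of_chart f' χ hsurj jX jY hsq' hpre (strictList F i l' b₀) hkerχ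
    (isWeaklyRegular_strictList F i l' b₀ hF hlnd (by rw [hbase]; exact hG) hb₀) r
  rw [length_strictList, List.length_pmap, Scheme.Hom.comp_apply, hr] at hfin
  exact hfin

end Groth.L07.BlowLib
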