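import Groth.Agent.L07.BlowLib.LocalGens
import Groth.Agent.L07.BlowLib.StrictGeom
import Groth.Agent.L07.RegSpread
import Groth.Agent.L14.RegImmStalk.Stalk
import Groth.Agent.L21.Mero.OfIdeal

/-! Adapted generators of regularly intersecting ideal sheaves on an affine neighbourhood. -/

set_option autoImplicit false
set_option linter.style.haveILetI false
set_option maxSynthPendingDepth 3
set_option maxHeartbeats 1600000

universe u

open CategoryTheory AlgebraicGeometry RingTheory.Sequence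

namespace Groth.L07.BlowLib

open Groth.L13.BU Groth.L22

section Alg

variable {R : Type u} [CommRing R]

theorem regMod_drop {A B : List R} (h : RegMod ⊥ (A ++ B)) : RegMod (Ideal.ofList A) B := by
  intro n hn z hz
  have h1 := h (A.length + n) (by rw [List.length_append]; omega) z
  rw [List.getElem_append_right (Nat.le_add_right _ _), List.take_append, List.take_of_length_le (Nat.le_add_right _ _),
    Ideal.ofList_append, bot_sup_eq] at h1
  simp only [Nat.add_sub_cancel_left] at h1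
  exact h1 hz

theorem exists_away_map_eq [IsNoetherianRing R] {I J : Ideal R} (p : Ideal R) [p.IsPrime]
    (S : Type u) [CommRing S] [Algebra R S] [IsLocalization.AtPrime S p]
    (h : I.map (algebraMap R S) = J.map (algebraMap R S)) :
    ∃ g ∉ p, ∀ (T : Type u) [CommRing T] [Algebra R T], IsUnit (algebraMap R T g) →
      I.map (algebraMap R T) = J.map (algebraMap R T) := by
  obtain ⟨g₁, hg₁, h₁⟩ := Groth.L07.RegSeq.exists_mul_mem_of_map_le (IsNoetherian.noetherian I) p S h.le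
  obtain ⟨g₂, hg₂, h₂⟩ := Groth.L07.RegSeq.exists_mul_mem_of_map_le (IsNoetherian.noetherian J) p S h.ge
  refine ⟨g₁ * g₂, fun hm => (Ideal.IsPrime.mem_or_mem inferInstance hm).elim hg₁ hg₂, fun T _ _ hu => ?_⟩
  rw [map_mul, IsUnit.mul_iff] at hu
  refine le_antisymm (Ideal.map_le_iff_le_comap.2 fun x hx => ?_) (Ideal.map_le_iff_le_comap.2 fun x hx => ?_)
  · rw [Ideal.mem_comap, ← Ideal.unit_mul_mem_iff_mem _ hu.1, ← map_mul]
    exact Ideal.mem_map_of_mem _ (h₁ x hx)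
  · rw [Ideal.mem_comap, ← Ideal.unit_mul_mem_iff_mem _ hu.2, ← map_mul]
    exact Ideal.mem_map_of_mem _ (h₂ x hx)

/-- lifting a regular sequence along a surjection -/
theorem exists_lift_regMod {S : Type u} [CommRing S] (σ : R →+* S) (hσ : Function.Surjective σ) (I : Ideal R)
    (rs : List S) (hI : I.map σ = Ideal.ofList rs) (hrs : IsWeaklyRegular S rs) :
    ∃ fA : List R, RingHom.ker σ ⊔ Ideal.ofList fA = RingHom.ker σ ⊔ I ∧ RegMod (RingHom.ker σ) fA := by
  obtain ⟨fA, rfl⟩ := List.map_surjective_iff.2 hσ rs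
  have hc : ∀ K : Ideal R, (K.map σ).comap σ = RingHom.ker σ ⊔ K := fun K => by
    rw [Ideal.comap_map_of_surjective _ hσ, ← RingHom.ker_eq_comap_bot, sup_comm]
  refine ⟨fA, by rw [← hc, ← hc, Ideal.map_ofList, hI], fun n hn z hz => ?_⟩
  rw [← hc, Ideal.mem_comap, map_mul, Ideal.map_ofList, List.map_take] at hz
  rw [← hc, Ideal.mem_comap, Ideal.map_ofList, List.map_take]
  have h1 := regMod_bot_of_isWeaklyRegular hrs n (by simpa using hn) (σ z) (by
    rw [List.getElem_map, bot_sup_eq]; exact hz)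
  rwa [bot_sup_eq] at h1

end Alg

variable {X Y : Scheme.{u}}

theorem map_germ_indep (𝓘 : X.IdealSheafData) (U V : X.affineOpens) {z : X} (hU : z ∈ U.1) (hV : z ∈ V.1) :
    (𝓘.ideal U).map (X.presheaf.germ U.1 z hU).hom = (𝓘.ideal V).map (X.presheaf.germ V.1 z hV).hom :=
  SetLike.coe_injective ((Groth.L21.Mero.map_germ_eq 𝓘 U.2 hU).trans (Groth.L21.Mero.map_germ_eq 𝓘 V.2 hV).symm)

theorem ideal_le_prime (𝓘 : X.IdealSheafData) (U : X.affineOpens) {z : X} (hU : z ∈ U.1) (hz : z ∈ 𝓘.support) :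
    (𝓘.ideal U).map (X.presheaf.germ U.1 z hU).hom ≤ IsLocalRing.maximalIdeal (X.presheaf.stalk z) := by
  rw [Ideal.map_le_iff_le_comap]
  intro a ha
  have h1 : z ∈ X.zeroLocus (U := U.1) (𝓘.ideal U : Set Γ(X, U.1)) :=
    ((Set.ext_iff.1 (𝓘.coe_support_inter U) z).1 ⟨hz, hU⟩).1
  have h2 : z ∉ X.basicOpen a := by
    intro hb
    exact (Scheme.mem_zeroLocus_iff X _ z).1 h1 a ha hb
  rw [X.mem_basicOpen _ _ hU] at h2
  exact h2

theorem exists_stalk_gens [IsLocallyNoetherian X] (𝓘 : X.IdealSheafData) (h : RegImm.IsRegularIdeal .regular 𝓘)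
    (U : X.affineOpens) {z : X} (hU : z ∈ U.1) (hz : z ∈ 𝓘.support) :
    ∃ fI : List (X.presheaf.stalk z),
      (𝓘.ideal U).map (X.presheaf.germ U.1 z hU).hom = Ideal.ofList fI ∧ RegMod ⊥ fI := by
  obtain ⟨V, hV, rs, hrs, hI⟩ := h z hz
  have hle := ideal_le_prime 𝓘 V hV hz
  haveI : IsNoetherianRing Γ(X, V.1) := IsLocallyNoetherian.component_noetherian V
  letI : Algebra Γ(X, V.1) (X.presheaf.stalk z) := (X.presheaf.germ V.1 z hV).hom.toAlgebra
  haveI := V.2.isLocalization_stalk ⟨z, hV⟩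
  haveI : Module.Flat Γ(X, V.1) (X.presheaf.stalk z) :=
    IsLocalization.flat _ (V.2.primeIdealOf ⟨z, hV⟩).asIdeal.primeCompl
  refine ⟨rs.map (algebraMap Γ(X, V.1) (X.presheaf.stalk z)), ?_,
    regMod_bot_of_isWeaklyRegular hrs.toIsWeaklyRegular.of_flat⟩
  rw [map_germ_indep 𝓘 U V hU hV, hI, Ideal.map_ofList]
  rfl

theorem exists_stalk_lift [IsLocallyNoetherian X] [IsLocallyNoetherian Y] (f : Y ⟶ X) [IsClosedImmersion f]
    (𝓘 : X.IdealSheafData) (h : RegImm.IsRegularIdeal .regular (𝓘.comap f))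
    (U : X.affineOpens) (y : Y) (hU : f y ∈ U.1) (hy : y ∈ (𝓘.comap f).support) :
    ∃ fA : List (X.presheaf.stalk (f y)),
      (f.ker.ideal U).map (X.presheaf.germ U.1 (f y) hU).hom ⊔ Ideal.ofList fA =
        (f.ker.ideal U).map (X.presheaf.germ U.1 (f y) hU).hom ⊔ (𝓘.ideal U).map (X.presheaf.germ U.1 (f y) hU).hom ∧
      RegMod ((f.ker.ideal U).map (X.presheaf.germ U.1 (f y) hU).hom) fA := by
  haveI : IsAffine (U.1 : Scheme.{u}) := U.2
  have hpre : IsAffineOpen (f ⁻¹ᵁ U.1) := U.2.preimage f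
  obtain ⟨fI, hfI, hr⟩ := exists_stalk_gens (𝓘.comap f) h ⟨f ⁻¹ᵁ U.1, hpre⟩ (z := y) hU hy
  have hker : RingHom.ker (f.stalkMap y).hom = (f.ker.ideal U).map (X.presheaf.germ U.1 (f y) hU).hom := by
    rw [Scheme.Hom.ker_apply]
    exact Groth.L14.RegImmStalk.ker_stalkMap f U.2 inferInstance y hU
  rw [Ideals.comap_ideal f 𝓘 U ⟨f ⁻¹ᵁ U.1, hpre⟩ le_rfl, Ideal.map_map] at hfI
  rw [← hker]
  refine exists_lift_regMod _ (f.stalkMap_surjective y) _ fI ?_ (isWeaklyRegular_of_regMod hr)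
  rw [← hfI, Ideal.map_map]
  congr 1
  ext a
  show (f.stalkMap y).hom ((X.presheaf.germ U.1 (f y) hU).hom a) = (Y.presheaf.germ _ y hU).hom ((f.appLE U.1 _ le_rfl).hom a)
  rw [← Scheme.Hom.app_eq_appLE]
  exact ConcreteCategory.congr_hom (Scheme.Hom.germ_stalkMap f U.1 y hU) a

theorem exists_adapted_affine [IsLocallyNoetherian X] (𝓘 𝓙 : X.IdealSheafData)
    (hI : RegImm.IsRegularIdeal .regular 𝓘) (hJ : RegImm.IsRegularIdeal .regular 𝓙)
    (hA : RegImm.IsRegularIdeal .regular (𝓘.comap 𝓙.subschemeι))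
    (hB : RegImm.IsRegularIdeal .regular (𝓙.comap 𝓘.subschemeι))
    (z : X) (hzI : z ∈ 𝓘.support) (hzJ : z ∈ 𝓙.support) :
    ∃ (U : X.affineOpens), z ∈ U.1 ∧ ∃ a c b : List Γ(X, U.1),
      𝓘.ideal U = Ideal.ofList (a ++ c) ∧ RegMod ⊥ (a ++ c) ∧ 𝓙.ideal U = Ideal.ofList (c ++ b) ∧
      RegMod ⊥ (c ++ b) ∧ RegMod (Ideal.ofList (a ++ c)) b := by
  classical
  obtain ⟨_, ⟨U₀, hU₀, rfl⟩, hz, -⟩ := X.isBasis_affineOpens.exists_subset_of_mem_open (Set.mem_univ z) isOpen_univ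
  replace hU₀ : IsAffineOpen U₀ := hU₀
  let U : X.affineOpens := ⟨U₀, hU₀⟩
  let A := Γ(X, U₀)
  let L := X.presheaf.stalk z
  haveI : IsNoetherianRing A := IsLocallyNoetherian.component_noetherian U
  letI : Algebra A L := (X.presheaf.germ U₀ z hz).hom.toAlgebra
  let P := (hU₀.primeIdealOf ⟨z, hz⟩).asIdeal
  haveI : IsLocalization.AtPrime L P := hU₀.isLocalization_stalk ⟨z, hz⟩
  haveI : IsNoetherianRing L := IsLocalization.isNoetherianRing P.primeCompl _ inferInstance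
  let I := (𝓘.ideal U).map (algebraMap A L)
  let J := (𝓙.ideal U).map (algebraMap A L)
  have hIm : I ≤ IsLocalRing.maximalIdeal L := ideal_le_prime 𝓘 U hz hzI
  have hJm : J ≤ IsLocalRing.maximalIdeal L := ideal_le_prime 𝓙 U hz hzJ
  obtain ⟨fI, hfI, hrI⟩ := exists_stalk_gens 𝓘 hI U hz hzI
  obtain ⟨fJ, hfJ, hrJ⟩ := exists_stalk_gens 𝓙 hJ U hz hzJ
  obtain ⟨fA, hfA, hrA⟩ : ∃ fA : List L, J ⊔ Ideal.ofList fA = J ⊔ I ∧ RegMod J fA := by
    obtain ⟨y, rfl⟩ : z ∈ Set.range 𝓙.subschemeι := by rw [Scheme.IdealSheafData.range_subschemeι]; exact hzJ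
    haveI : IsLocallyNoetherian 𝓙.subscheme := LocallyOfFiniteType.isLocallyNoetherian 𝓙.subschemeι
    have hy : y ∈ (𝓘.comap 𝓙.subschemeι).support := by
      rw [Scheme.IdealSheafData.support_comap]; exact hzI
    have := exists_stalk_lift 𝓙.subschemeι 𝓘 hA U y hz hy
    rw [Scheme.IdealSheafData.ker_subschemeι] at this
    exact this
  obtain ⟨fB, hfB, hrB⟩ : ∃ fB : List L, I ⊔ Ideal.ofList fB = I ⊔ J ∧ RegMod I fB := by
    obtain ⟨y, rfl⟩ : z ∈ Set.range 𝓘.subschemeι := by rw [Scheme.IdealSheafData.range_subschemeι]; exact hzI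
    haveI : IsLocallyNoetherian 𝓘.subscheme := LocallyOfFiniteType.isLocallyNoetherian 𝓘.subschemeι
    have hy : y ∈ (𝓙.comap 𝓘.subschemeι).support := by
      rw [Scheme.IdealSheafData.support_comap]; exact hzJ
    have := exists_stalk_lift 𝓘.subschemeι 𝓙 hB U y hz hy
    rw [Scheme.IdealSheafData.ker_subschemeι] at this
    exact this
  have hne : ∀ {K : Ideal L}, K ≤ IsLocalRing.maximalIdeal L → K ≠ ⊤ := fun hK h =>
    (IsLocalRing.maximalIdeal.isMaximal L).ne_top (top_le_iff.1 (h.ge.trans hK))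
  obtain ⟨a, c, b, hIeq, hrac, hJeq, hrcb, hrb, -⟩ :=
    exists_adapted I J fI fJ fA fB (hne hIm) (hne hJm) hfI hrI hfJ hrJ hfA hrA hfB hrB
  have hracb : RegMod ⊥ (a ++ c ++ b) := regMod_append hrac (by rw [bot_sup_eq, ← hIeq]; exact hrb)
  -- numerators
  have hnum : ∀ x : L, ∃ v : A, Associated x (algebraMap A L v) := fun x => by
    obtain ⟨v, s, rfl⟩ := IsLocalization.exists_mk'_eq P.primeCompl x
    exact ⟨v, (IsLocalization.map_units L s).unit, by
      rw [IsUnit.unit_spec, IsLocalization.mk'_spec]⟩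
  choose num hnum using hnum
  let φ := algebraMap A L
  have hspan : ∀ l : List L, Ideal.ofList ((l.map num).map φ) = Ideal.ofList l := fun l => by
    refine le_antisymm (Ideal.span_le.2 fun x hx => ?_) (Ideal.span_le.2 fun x hx => ?_)
    · simp only [Set.mem_setOf_eq, List.map_map, List.mem_map] at hx
      obtain ⟨y, hy, rfl⟩ := hx
      exact Ideal.mem_of_dvd _ (hnum y).dvd (Ideal.subset_span hy)
    · exact Ideal.mem_of_dvd _ (hnum x).dvd' (Ideal.subset_span (List.mem_map_of_mem (List.mem_map_of_mem hx)))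
  have hreg : ∀ l : List L, RegMod ⊥ l → Ideal.ofList l ≤ IsLocalRing.maximalIdeal L →
      IsWeaklyRegular L ((l.map num).map φ) := fun l hl hlm =>
    isWeaklyRegular_of_regMod (regMod_of_indep_span hl
      (fun x hx => hlm ((hspan l).le (Ideal.subset_span hx))) (hspan l) (by simp))
  obtain ⟨g₁, hg₁, hT₁⟩ := Groth.L07.RegSeq.exists_away_isWeaklyRegular ((a ++ c).map num) P L
    (hreg _ hrac (hIeq ▸ hIm))
  obtain ⟨g₂, hg₂, hT₂⟩ := Groth.L07.RegSeq.exists_away_isWeaklyRegular ((c ++ b).map num) P L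
    (hreg _ hrcb (hJeq ▸ hJm))
  obtain ⟨g₃, hg₃, hT₃⟩ := Groth.L07.RegSeq.exists_away_isWeaklyRegular ((a ++ c ++ b).map num) P L
    (hreg _ hracb (by
      rw [Ideal.ofList_append, ← hIeq]
      exact sup_le hIm (le_trans (le_trans le_sup_right (Ideal.ofList_append c b).ge) (hJeq ▸ hJm))))
  obtain ⟨g₄, hg₄, hT₄⟩ := exists_away_map_eq (I := 𝓘.ideal U) (J := Ideal.ofList ((a ++ c).map num)) P L (by
    rw [Ideal.map_ofList, hspan, ← hIeq])
  obtain ⟨g₅, hg₅, hT₅⟩ := exists_away_map_eq (I := 𝓙.ideal U) (J := Ideal.ofList ((c ++ b).map num)) P L (by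
    rw [Ideal.map_ofList, hspan, ← hJeq])
  let G : A := g₁ * g₂ * g₃ * g₄ * g₅
  have hG : G ∈ P.primeCompl := mul_mem (mul_mem (mul_mem (mul_mem hg₁ hg₂) hg₃) hg₄) hg₅
  have hd1 : g₁ ∣ G := (((dvd_mul_right g₁ g₂).mul_right g₃).mul_right g₄).mul_right g₅
  have hd2 : g₂ ∣ G := (((dvd_mul_left g₂ g₁).mul_right g₃).mul_right g₄).mul_right g₅
  have hd3 : g₃ ∣ G := ((dvd_mul_left g₃ _).mul_right g₄).mul_right g₅
  have hd4 : g₄ ∣ G := (dvd_mul_left g₄ _).mul_right g₅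
  have hd5 : g₅ ∣ G := dvd_mul_left g₅ _
  let D : X.affineOpens := X.affineBasicOpen (U := U) G
  have hzD : z ∈ D.1 := by
    show z ∈ X.basicOpen (G : A)
    rw [X.mem_basicOpen _ _ hz]
    exact IsLocalization.map_units L (⟨G, hG⟩ : P.primeCompl)
  letI : Algebra A Γ(X, D.1) := (X.presheaf.map (homOfLE (X.basicOpen_le G)).op).hom.toAlgebra
  haveI : IsLocalization.Away G Γ(X, D.1) := hU₀.isLocalization_basicOpen G
  have hu : ∀ {g : A}, g ∣ G → IsUnit (algebraMap A Γ(X, D.1) g) := fun hd =>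
    isUnit_of_dvd_unit (map_dvd _ hd) (IsLocalization.Away.algebraMap_isUnit G)
  let N : List L → List Γ(X, D.1) := fun l => (l.map num).map (algebraMap A Γ(X, D.1))
  have hN : ∀ l l', N (l ++ l') = N l ++ N l' := fun l l' => by simp [N]
  refine ⟨D, hzD, N a, N c, N b, ?_, ?_, ?_, ?_, ?_⟩
  · rw [← hN, ← 𝓘.map_ideal (U := D) (V := U) (X.affineBasicOpen_le (V := U) G)]
    show _ = Ideal.ofList (((a ++ c).map num).map (algebraMap A Γ(X, D.1)))
    rw [← Ideal.map_ofList]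
    exact hT₄ _ (hu hd4)
  · rw [← hN]; exact regMod_bot_of_isWeaklyRegular (hT₁ _ G inferInstance hd1)
  · rw [← hN, ← 𝓙.map_ideal (U := D) (V := U) (X.affineBasicOpen_le (V := U) G)]
    show _ = Ideal.ofList (((c ++ b).map num).map (algebraMap A Γ(X, D.1)))
    rw [← Ideal.map_ofList]
    exact hT₅ _ (hu hd5)
  · rw [← hN]; exact regMod_bot_of_isWeaklyRegular (hT₂ _ G inferInstance hd2)
  · refine regMod_drop ?_
    rw [← hN, ← hN]
    exact regMod_bot_of_isWeaklyRegular (hT₃ _ G inferInstance hd3)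

end Groth.L07.BlowLib
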