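import Groth.Agent.L07.BlowLib.Deformation
import Groth.Agent.L07.BlowLib.LocalSpread
import Groth.Agent.L16.ProjSpace.BaseChange

/-! Strict transforms in deformations to the normal cone. -/

set_option autoImplicit false
set_option linter.style.haveILetI false
set_option maxSynthPendingDepth 3
set_option maxHeartbeats 1600000
set_option backward.isDefEq.respectTransparency false
set_option backward.isDefEq.respectTransparency.types false

universe u

open CategoryTheory CategoryTheory.Limits AlgebraicGeometry TopologicalSpace Opposite MvPolynomial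

namespace Groth.L07.BlowLib

open Groth.L22 Groth.L11.BlowSmooth Groth.L16.ProjSpace

variable {X Y Z : Scheme.{u}}

theorem ideal_eq_top_of_disjoint (𝓘 : X.IdealSheafData) (D : X.affineOpens)
    (h : ∀ x ∈ D.1, x ∉ 𝓘.support) : 𝓘.ideal D = ⊤ := by
  by_contra hne
  obtain ⟨m, hm, hle⟩ := Ideal.exists_le_maximal _ hne
  have h1 : (⟨m, hm.isPrime⟩ : PrimeSpectrum Γ(X, D.1)) ∈
      D.2.fromSpec ⁻¹' X.zeroLocus (U := D.1) (𝓘.ideal D : Set Γ(X, D.1)) := by
    rw [D.2.fromSpec_preimage_zeroLocus]; exact hle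
  have h2 : D.2.fromSpec ⟨m, hm.isPrime⟩ ∈ (D.1 : Set X) := by
    rw [← D.2.range_fromSpec]; exact ⟨_, rfl⟩
  exact h _ h2 ((Set.ext_iff.1 (𝓘.coe_support_inter D) _).2 ⟨h1, h2⟩).1

theorem restrict_gens (𝓘 : X.IdealSheafData) {W D : X.affineOpens} (h : D ≤ W) (rs : List Γ(X, W.1))
    (hrs : RingTheory.Sequence.IsWeaklyRegular Γ(X, W.1) rs) (hI : 𝓘.ideal W = Ideal.ofList rs) :
    ∃ rs' : List Γ(X, D.1), rs'.length = rs.length ∧ RegMod ⊥ rs' ∧ 𝓘.ideal D = Ideal.ofList rs' := by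
  let r := (X.presheaf.map (homOfLE (show D.1 ≤ W.1 from h)).op).hom
  have hf : r.Flat := by
    have h1 := Flat.flat_appLE (𝟙 X) W.2 D.2 (h : D.1 ≤ W.1)
    have h2 : (𝟙 X : X ⟶ X).appLE W.1 D.1 h = X.presheaf.map (homOfLE (h : D.1 ≤ W.1)).op :=
      (Category.id_comp _)
    rwa [h2] at h1
  letI := r.toAlgebra
  haveI : Module.Flat Γ(X, W.1) Γ(X, D.1) := RingHom.flat_algebraMap_iff.1 hf
  refine ⟨rs.map r, List.length_map _, regMod_bot_of_isWeaklyRegular hrs.of_flat, ?_⟩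
  rw [← 𝓘.map_ideal h, hI, Ideal.map_ofList]
  rfl

theorem exists_pair_chart {c c' : ℕ} (i : Y ⟶ X) [IsClosedImmersion i] (i' : Z ⟶ Y) [IsClosedImmersion i']
    (hi : RegImm.IsRegularImmersionOfCodim RegImm.Kind.regular c i)
    (hi' : RegImm.IsRegularImmersionOfCodim RegImm.Kind.regular c' i') (v : Z) :
    ∃ D : X.affineOpens, (i' ≫ i) v ∈ D.1 ∧ ∃ fs gs : List Γ(X, D.1), fs.length = c ∧ RegMod ⊥ (fs ++ gs) ∧
      i.ker.ideal D = Ideal.ofList fs ∧ (i' ≫ i).ker.ideal D = Ideal.ofList (fs ++ gs) := by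
  obtain ⟨W, hvW, -, rs, hc, hrs, hk⟩ := hi.2 (i' v)
  obtain ⟨V, hvV, -, rs', -, hrs', hk'⟩ := hi'.2 v
  have hU : IsAffineOpen (i ⁻¹ᵁ W.1) := W.2.preimage i
  obtain ⟨a, hle, hza⟩ := hU.exists_basicOpen_le (V := V.1) ⟨i' v, hvV⟩ hvW
  obtain ⟨a, rfl⟩ := i.app_surjective W.1 W.2 a
  let D : X.affineOpens := X.affineBasicOpen (U := W) a
  have hpre : i ⁻¹ᵁ D.1 = Y.basicOpen (i.app W.1 a) := i.preimage_basicOpen a
  let DY : Y.affineOpens := ⟨i ⁻¹ᵁ D.1, D.2.preimage i⟩
  obtain ⟨fs, hfl, hfr, hfk⟩ := restrict_gens i.ker (X.affineBasicOpen_le (V := W) a : D ≤ W) rs hrs.toIsWeaklyRegular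
    ((Scheme.Hom.ker_apply i W).trans hk)
  obtain ⟨gs', -, hgr, hgk⟩ := restrict_gens i'.ker (show DY ≤ V from hpre.trans_le hle) rs' hrs'.toIsWeaklyRegular
    ((Scheme.Hom.ker_apply i' V).trans hk')
  let σ := (i.app D.1).hom
  have hσ : Function.Surjective σ := i.app_surjective D.1 D.2
  have hkσ : RingHom.ker σ = Ideal.ofList fs := (Scheme.Hom.ker_apply i D).symm.trans hfk
  obtain ⟨gs, hgs, hgsr⟩ := exists_lift_regMod σ hσ ((i'.ker.ideal DY).comap σ) gs'
    (by rw [Ideal.map_comap_of_surjective _ hσ]; exact hgk) (isWeaklyRegular_of_regMod hgr)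
  refine ⟨D, ?_, fs, gs, hfl.trans hc, regMod_append hfr ?_, hfk, ?_⟩
  · show i' v ∈ i ⁻¹ᵁ D.1
    rw [hpre]; exact hza
  · rw [bot_sup_eq, ← hkσ]; exact hgsr
  · rw [Ideal.ofList_append, ← hkσ, hgs, sup_eq_right.2 ((RingHom.ker_eq_comap_bot σ).trans_le (Ideal.comap_mono bot_le)),
      Scheme.Hom.ker_apply, Scheme.Hom.ker_apply, RingHom.comap_ker]
    rw [Scheme.Hom.comp_app]
    rfl

theorem ker_comp_ideal (w : Z ⟶ X) [QuasiCompact w] {P : Scheme.{u}} (s : X ⟶ P) [QuasiCompact s]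
    (U : P.affineOpens) (V : X.affineOpens) (h : s ⁻¹ᵁ U.1 = V.1) :
    (w ≫ s).ker.ideal U = (w.ker.ideal V).comap (s.appLE U.1 V.1 h.ge).hom := by
  have key : ∀ (V : X.Opens) (hV : IsAffineOpen V) (h : s ⁻¹ᵁ U.1 = V),
      (w ≫ s).ker.ideal U = (w.ker.ideal ⟨V, hV⟩).comap (s.appLE U.1 V h.ge).hom := by
    rintro V hV rfl
    rw [Scheme.Hom.ker_apply, Scheme.Hom.ker_apply, RingHom.comap_ker, ← Scheme.Hom.app_eq_appLE,
      Scheme.Hom.comp_app]
    rfl
  exact key V.1 V.2 h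

theorem comap_equiv {R S T : Type u} [CommRing R] [CommRing S] [CommRing T] (e : R ≃+* S) (σ : S →+* T)
    (ev : R →+* T) (h : ∀ P, σ (e P) = ev P) (K : Ideal T) : K.comap σ = (K.comap ev).map (e : R →+* S) := by
  ext t
  obtain ⟨t, rfl⟩ := e.surjective t
  refine ⟨fun ht => Ideal.mem_map_of_mem _ (by rw [Ideal.mem_comap, ← h]; exact ht), fun ht => ?_⟩
  obtain ⟨x, hx, hxe⟩ := (Ideal.mem_map_iff_of_surjective (e : R →+* S) e.surjective).1 ht
  rw [Ideal.mem_comap, ← hxe]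
  rw [Ideal.mem_comap, ← h] at hx
  exact hx

theorem exists_ringEquiv {P : Scheme.{u}} {B : CommRingCat.{u}} (χ : Spec B ⟶ P) [IsOpenImmersion χ] :
    ∃ (U : P.affineOpens) (ψ : B ⟶ Γ(P, U.1)), U.1 = χ.opensRange ∧ IsIso ψ ∧
      Spec.map ψ ≫ χ = U.2.fromSpec := by
  let U : P.affineOpens := ⟨χ.opensRange, isAffineOpen_opensRange χ⟩
  haveI : IsOpenImmersion (U.2.fromSpec) := inferInstance
  let e := IsOpenImmersion.isoOfRangeEq χ U.2.fromSpec (by
    show Set.range χ = Set.range U.2.fromSpec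
    rw [U.2.range_fromSpec]; rfl)
  refine ⟨U, Spec.preimage e.inv, rfl, ?_, ?_⟩
  · refine ⟨Spec.preimage e.hom, Spec.map_injective ?_, Spec.map_injective ?_⟩
    · rw [Spec.map_comp, Spec.map_preimage, Spec.map_preimage, Spec.map_id, e.hom_inv_id]
    · rw [Spec.map_comp, Spec.map_preimage, Spec.map_preimage, Spec.map_id, e.inv_hom_id]
  · rw [Spec.map_preimage]
    exact IsOpenImmersion.isoOfRangeEq_inv_fac χ U.2.fromSpec _

theorem ev_toAway :
    (P1.evalAway.{u} 1).comp (toAway 1 (ULift.{u} ℤ) 1) = MvPolynomial.constantCoeff := by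
  refine MvPolynomial.ringHom_ext (fun r => ?_) (fun j => ?_)
  · obtain ⟨n⟩ := r
    rw [show (⟨n⟩ : ULift.{u} ℤ) = (n : ULift.{u} ℤ) from rfl]
    simp only [map_intCast]
  · simp only [RingHom.comp_apply, toAway_X, constantCoeff_X]
    have h := congrArg (IsLocalization.Away.lift (S := Localization.Away (P1.T.{u} 1)) (P1.T.{u} 1)
      (g := (MvPolynomial.aeval (Pi.single 1 (1 : P1.R0.{u}) : Fin (1 + 1) → P1.R0)).toRingHom)
      (by simp)) (val_ratio_mul 1 (ULift.{u} ℤ) 1 j.1)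
    rw [map_mul, IsLocalization.Away.lift_eq, IsLocalization.Away.lift_eq] at h
    simp [Pi.single_apply, j.2] at h
    exact h

theorem point_one : P1.point.{u} 1 =
    Spec.map (CommRingCat.ofHom (MvPolynomial.constantCoeff :
      MvPolynomial (ChartVar 1 1) (ULift.{u} ℤ) →+* ULift.{u} ℤ)) ≫ chart 1 (ULift.{u} ℤ) 1 := by
  rw [← ev_toAway, chart, ← Category.assoc, ← Spec.map_comp]
  show Spec.map _ ≫ _ = _
  congr 2
  refine CommRingCat.hom_ext (RingHom.ext fun x => ?_)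
  show P1.evalAway 1 x = P1.evalAway 1 (toAway 1 (ULift.{u} ℤ) 1 ((awayEquiv 1 (ULift.{u} ℤ) 1).symm x))
  rw [show toAway 1 (ULift.{u} ℤ) 1 ((awayEquiv 1 (ULift.{u} ℤ) 1).symm x) = x from
    (awayEquiv 1 (ULift.{u} ℤ) 1).apply_symm_apply x]

/-- The chart at infinity. -/
theorem exists_inf_chart (V : X.affineOpens) :
    ∃ (U : (CohB1.ProjSpaceOver 1 X).affineOpens)
      (hp : U.1 ≤ CohB1.ProjSpaceOver.toBase 1 X ⁻¹ᵁ V.1) (hs : P1.sect X 1 ⁻¹ᵁ U.1 = V.1)
      (e : MvPolynomial (ChartVar 1 1) Γ(X, V.1) ≃+* Γ(CohB1.ProjSpaceOver 1 X, U.1)),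
      (∀ a, e (MvPolynomial.C a) = ((CohB1.ProjSpaceOver.toBase 1 X).appLE V.1 U.1 hp).hom a) ∧
      ∀ P, ((P1.sect X 1).appLE U.1 V.1 hs.ge).hom (e P) = MvPolynomial.constantCoeff P := by
  let A := Γ(X, V.1)
  let p := CohB1.ProjSpaceOver.toBase 1 X
  let s := P1.sect X 1
  let jV : Spec (CommRingCat.of A) ⟶ X := V.2.fromSpec
  haveI : IsOpenImmersion jV := inferInstanceAs (IsOpenImmersion V.2.fromSpec)
  haveI : IsOpenImmersion (overMap 1 jV) := MorphismProperty.of_isPullback (isPullback_overMap 1 jV).flip inferInstance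
  let χ := chart 1 A 1 ≫ (isoOver 1 A).hom ≫ overMap 1 jV
  let φ : ULift.{u} ℤ →+* A := (algebraMap ℤ A).comp ULift.ringEquiv.toRingHom
  let C₀ : A →+* MvPolynomial (ChartVar 1 1) A := MvPolynomial.C
  let ev : MvPolynomial (ChartVar 1 1) A →+* A := MvPolynomial.constantCoeff
  have hχp : χ ≫ p = Spec.map (CommRingCat.ofHom C₀) ≫ jV := by
    simp only [χ, p, Category.assoc, (isPullback_overMap 1 jV).w, isoOver_hom_toBase_assoc, chart_toSpec_assoc]
    rfl
  have hev : ev.comp C₀ = RingHom.id A := RingHom.ext fun a => MvPolynomial.constantCoeff_C _ a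
  have hsχ : jV ≫ s = Spec.map (CommRingCat.ofHom ev) ≫ χ := by
    apply pullback.hom_ext
    · have h1 : overMap 1 jV ≫ pullback.fst (CohB1.ProjSpace.toSpec 1 (ULift.{u} ℤ)) (specULiftZIsTerminal.from X) =
          pullback.fst (CohB1.ProjSpace.toSpec 1 (ULift.{u} ℤ)) (specULiftZIsTerminal.from (Spec (CommRingCat.of A))) :=
        (pullback.lift_fst _ _ _).trans (Category.comp_id _)
      have h2 : (isoOver 1 A).hom ≫
          pullback.fst (CohB1.ProjSpace.toSpec 1 (ULift.{u} ℤ)) (specULiftZIsTerminal.from (Spec (CommRingCat.of A))) =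
          Groth.L16.ProjSpace.map 1 φ :=
        (isPullback_over 1 (R := A)).isoPullback_hom_fst
      have hl : (jV ≫ s) ≫ pullback.fst _ _ = Spec.map (CommRingCat.ofHom φ) ≫ P1.point.{u} 1 := by
        show (jV ≫ s) ≫ pullback.fst (CohB1.ProjSpace.toSpec 1 (ULift.{u} ℤ)) (specULiftZIsTerminal.from X) = _
        rw [Category.assoc]
        erw [pullback.lift_fst]
        rw [← Category.assoc, specULiftZIsTerminal.hom_ext (jV ≫ specULiftZIsTerminal.from X)
          (Spec.map (CommRingCat.ofHom φ))]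
      refine hl.trans ?_
      show _ = (Spec.map _ ≫ χ) ≫ pullback.fst (CohB1.ProjSpace.toSpec 1 (ULift.{u} ℤ)) (specULiftZIsTerminal.from X)
      simp only [χ, Category.assoc, h1, h2, chart_map, point_one, ← Spec.map_comp_assoc]
      congr 2
    · show (jV ≫ s) ≫ p = (Spec.map _ ≫ χ) ≫ p
      rw [Category.assoc, Category.assoc, hχp, sect_toBase, ← Spec.map_comp_assoc, ← CommRingCat.ofHom_comp, hev,
        CommRingCat.ofHom_id, Spec.map_id, Category.id_comp, Category.comp_id]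
  obtain ⟨U, ψ, hU, hψ, hψχ⟩ := exists_ringEquiv χ
  have hp : U.1 ≤ p ⁻¹ᵁ V.1 := by
    rw [hU]
    rintro _ ⟨x, rfl⟩
    show p (χ x) ∈ V.1
    rw [← Scheme.Hom.comp_apply, hχp, Scheme.Hom.comp_apply]
    show _ ∈ (V.1 : Set X)
    rw [← V.2.range_fromSpec]
    exact ⟨_, rfl⟩
  have hs : s ⁻¹ᵁ U.1 = V.1 := by
    refine le_antisymm (fun x hx => ?_) (fun x hx => ?_)
    · have h1 : p (s x) ∈ V.1 := hp hx
      rwa [← Scheme.Hom.comp_apply, sect_toBase] at h1
    · obtain ⟨x, rfl⟩ : x ∈ Set.range jV := by rw [show Set.range jV = (V.1 : Set X) from V.2.range_fromSpec]; exact hx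
      show s (jV x) ∈ U.1
      rw [hU, ← Scheme.Hom.comp_apply, hsχ]
      exact ⟨_, rfl⟩
  let e := RingEquiv.ofBijective ψ.hom (ConcreteCategory.bijective_of_isIso ψ)
  refine ⟨U, hp, hs, e, fun a => ?_, fun P => ?_⟩
  · have h1 : Spec.map (p.appLE V.1 U.1 hp) = Spec.map (CommRingCat.ofHom C₀ ≫ ψ) := by
      rw [← cancel_mono V.2.fromSpec, V.2.SpecMap_appLE_fromSpec p U.2 hp, ← hψχ, Category.assoc, hχp,
        Spec.map_comp, Category.assoc]
    exact (ConcreteCategory.congr_hom (Spec.map_injective h1) a).symm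
  · have h1 : Spec.map (ψ ≫ s.appLE U.1 V.1 hs.ge) = Spec.map (CommRingCat.ofHom ev) := by
      rw [← cancel_mono χ, Spec.map_comp, Category.assoc, hψχ, U.2.SpecMap_appLE_fromSpec s V.2 hs.ge]
      exact hsχ
    exact ConcreteCategory.congr_hom (Spec.map_injective h1) P

theorem poly_regMod {A : Type u} {σ : Type} [CommRing A] (j : σ) {L : List A} (h : RegMod ⊥ L) :
    RegMod ⊥ (L.map (MvPolynomial.C (σ := σ)) ++ [MvPolynomial.X j]) := by
  have hs : ∀ K : Ideal A, K.map (MvPolynomial.C : A →+* MvPolynomial σ A) =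
      Ideal.span (MvPolynomial.X '' (∅ : Set σ)) ⊔ K.map MvPolynomial.C := fun K => by simp
  refine regMod_append (fun n hn z hz => ?_) (fun n hn z hz => ?_)
  · rw [List.length_map] at hn
    rw [List.getElem_map, bot_sup_eq, ← List.map_take, ← Ideal.map_ofList, hs] at hz
    rw [bot_sup_eq, ← List.map_take, ← Ideal.map_ofList, hs]
    exact vars_sup_C_regular _ _ (fun w hw => by simpa using h n hn w (by simpa using hw)) hz
  · obtain rfl : n = 0 := by simpa using hn
    simp only [List.getElem_cons_zero, List.take_zero, Ideal.ofList_nil, sup_bot_eq, bot_sup_eq,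
      ← Ideal.map_ofList] at hz ⊢
    rw [hs] at hz ⊢
    exact vars_sup_X_regular _ _ (Set.notMem_empty j) hz

theorem comap_constantCoeff {A : Type u} [CommRing A] (L : List A) :
    (Ideal.ofList L).comap (MvPolynomial.constantCoeff : MvPolynomial (ChartVar 1 1) A →+* A) =
      Ideal.ofList (L.map MvPolynomial.C ++ [MvPolynomial.X ⟨0, by decide⟩]) := by
  have hv : (Set.univ : Set (ChartVar 1 1)) = {⟨0, by decide⟩} := by
    ext x
    simp only [Set.mem_univ, Set.mem_singleton_iff, true_iff]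
    obtain ⟨x, hx⟩ := x
    apply Subtype.ext
    revert hx
    fin_cases x <;> simp
  ext P
  rw [Ideal.ofList_append, ← Ideal.map_ofList, Ideal.ofList_singleton, sup_comm,
    show Ideal.span {(MvPolynomial.X ⟨0, by decide⟩ : MvPolynomial (ChartVar 1 1) A)} =
      Ideal.span (MvPolynomial.X '' Set.univ) by rw [hv, Set.image_singleton],
    mem_vars_sup_iff, Ideal.mem_comap]
  refine ⟨fun h d hd => ?_, fun h => h 0 fun _ _ => rfl⟩
  obtain rfl : d = 0 := Finsupp.ext fun s => hd s (Set.mem_univ s)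
  exact h

theorem isClosedImmersion_sect (X : Scheme.{u}) : IsClosedImmersion (P1.sect X 1) := by
  haveI : IsProper (CohB1.ProjSpaceOver.toBase 1 X) := Groth.L16.ProjSpace.isProper_toBase 1 X
  haveI : IsClosedImmersion (P1.sect X 1 ≫ CohB1.ProjSpaceOver.toBase 1 X) := by rw [sect_toBase]; infer_instance
  exact IsClosedImmersion.of_comp (P1.sect X 1) (CohB1.ProjSpaceOver.toBase 1 X)

theorem ker_toP1 (i : Y ⟶ X) [IsClosedImmersion i] :
    (P1.toP1 i).ker = i.ker.comap (CohB1.ProjSpaceOver.toBase 1 X) := by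
  rw [← (isPullback_toBase i).isoPullback_hom_fst, Scheme.Hom.ker_comp_of_isIso,
    Scheme.IdealSheafData.ker_fst_of_isClosedImmersion]

theorem centre_comap (i : Y ⟶ X) [IsClosedImmersion i] (i' : Z ⟶ Y) [IsClosedImmersion i'] :
    ((i' ≫ i) ≫ P1.sect X 1).ker.comap (P1.toP1 i) = (i' ≫ P1.sect Y 1).ker := by
  haveI := isClosedImmersion_sect X
  have hsq : IsPullback i (P1.sect Y 1) (P1.sect X 1) (P1.toP1 i) := by
    refine IsPullback.of_bot ?_ (sect_toP1 i 1).symm (isPullback_toBase i)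
    rw [sect_toBase, sect_toBase]
    exact IsPullback.of_vert_isIso ⟨by simp⟩
  have hmono : IsPullback (𝟙 Z) i' (i' ≫ i) i := by
    refine ⟨⟨Category.id_comp _⟩, ⟨PullbackCone.IsLimit.mk _ (fun c => c.fst) (fun c => Category.comp_id _)
      (fun c => ?_) (fun c m h _ => by simpa using h)⟩⟩
    exact (cancel_mono i).1 (by rw [Category.assoc]; exact c.condition)
  have hpb : IsPullback (i' ≫ P1.sect Y 1) (𝟙 Z) (P1.toP1 i) ((i' ≫ i) ≫ P1.sect X 1) :=
    (hmono.paste_vert hsq).flip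
  conv_rhs => rw [← hpb.isoPullback_hom_fst, Scheme.Hom.ker_comp_of_isIso,
    Scheme.IdealSheafData.ker_fst_of_isClosedImmersion]

theorem isEffCartier_sect (Y : Scheme.{u}) : BlowUp.IsEffCartierIdeal (P1.sect Y 1).ker := by
  haveI := isClosedImmersion_sect Y
  intro z
  by_cases hz : z ∈ (P1.sect Y 1).ker.support
  · obtain ⟨y, rfl⟩ : z ∈ Set.range (P1.sect Y 1) := by
      have h : z ∈ ((P1.sect Y 1).ker.support : Set _) := hz
      rwa [Scheme.Hom.support_ker, (P1.sect Y 1).isClosedEmbedding.isClosed_range.closure_eq] at h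
    obtain ⟨_, ⟨V, hV, rfl⟩, hy, -⟩ := Y.isBasis_affineOpens.exists_subset_of_mem_open (Set.mem_univ y) isOpen_univ
    obtain ⟨U, hp, hs, e, heC, hev⟩ := exists_inf_chart (⟨V, hV⟩ : Y.affineOpens)
    refine ⟨U, show y ∈ P1.sect Y 1 ⁻¹ᵁ U.1 from hs.ge hy, e (MvPolynomial.X ⟨0, by decide⟩), ?_, ?_⟩
    · rw [mem_nonZeroDivisors_iff_right]
      intro w hw
      obtain ⟨w, rfl⟩ := e.surjective w
      rw [← map_mul, map_eq_zero_iff _ e.injective] at hw
      rw [MvPolynomial.ext_iff] at hw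
      rw [show w = 0 from MvPolynomial.ext _ _ fun d => by
        have h1 := hw (d + Finsupp.single ⟨0, by decide⟩ 1)
        rwa [MvPolynomial.coeff_mul_X] at h1, map_zero]
    · rw [show (P1.sect Y 1).ker = (𝟙 Y ≫ P1.sect Y 1).ker by rw [Category.id_comp],
        ker_comp_ideal (𝟙 Y) _ U ⟨V, hV⟩ hs, Scheme.Hom.ker_apply]
      have hb : RingHom.ker ((𝟙 Y : Y ⟶ Y).app V).hom = Ideal.ofList ([] : List Γ(Y, V)) := by
        rw [Ideal.ofList_nil]; exact (RingHom.injective_iff_ker_eq_bot _).1 fun _ _ h => h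
      rw [hb, comap_equiv e _ _ hev, comap_constantCoeff, List.map_nil, List.nil_append, Ideal.ofList_singleton,
        Ideal.map_span, Set.image_singleton]
      rfl
  · obtain ⟨_, ⟨D, hD, rfl⟩, hzD, hle⟩ := (CohB1.ProjSpaceOver 1 Y).isBasis_affineOpens.exists_subset_of_mem_open
      (show z ∈ (P1.sect Y 1).ker.support.compl from hz) (P1.sect Y 1).ker.support.compl.2
    refine ⟨⟨D, hD⟩, hzD, 1, one_mem _, ?_⟩
    rw [ideal_eq_top_of_disjoint _ ⟨D, hD⟩ fun x hx => hle hx, Ideal.span_singleton_one]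

theorem isBlowUp_id {𝓘 : X.IdealSheafData} (h : BlowUp.IsEffCartierIdeal 𝓘) : BlowUp.IsBlowUp (𝟙 X) 𝓘 := by
  refine ⟨by rw [Scheme.IdealSheafData.comap_id]; exact h, fun T g _ => ⟨g, Category.comp_id g, fun g' hg' => ?_⟩⟩
  simpa using hg'

theorem regularAt_deformation {c : ℕ} (i : Y ⟶ X) [IsClosedImmersion i] (w : Z ⟶ X) [IsClosedImmersion w]
    (hi : RegImm.IsRegularImmersionOfCodim RegImm.Kind.regular c i)
    (hw : ∀ v : Z, ∃ D : X.affineOpens, w v ∈ D.1 ∧ ∃ fs gs : List Γ(X, D.1), fs.length = c ∧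
      RegMod ⊥ (fs ++ gs) ∧ i.ker.ideal D = Ideal.ofList fs ∧ w.ker.ideal D = Ideal.ofList (fs ++ gs))
    {M M' : Scheme.{u}} (b : M ⟶ CohB1.ProjSpaceOver 1 X) (hb : BlowUp.IsBlowUp b (w ≫ P1.sect X 1).ker)
    (b' : M' ⟶ CohB1.ProjSpaceOver 1 Y)
    (hb' : BlowUp.IsBlowUp b' ((w ≫ P1.sect X 1).ker.comap (P1.toP1 i)))
    (j : M' ⟶ M) (hj : j ≫ b = b' ≫ P1.toP1 i) :
    IsClosedImmersion j ∧ RegImm.IsRegularImmersionOfCodim RegImm.Kind.regular c j := by
  classical
  haveI := isClosedImmersion_sect X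
  let p := CohB1.ProjSpaceOver.toBase 1 X
  haveI : Smooth p := Groth.L16.ProjSpace.smooth_toBase 1 X
  haveI : IsClosedImmersion (P1.toP1 i) := MorphismProperty.of_isPullback (isPullback_toBase i).flip inferInstance
  haveI := isClosedImmersion_strictTransform (w ≫ P1.sect X 1).ker (P1.toP1 i) hb hb' j hj
  refine ⟨inferInstance, inferInstance, fun y' => ?_⟩
  by_cases hz : b (j y') ∈ (w ≫ P1.sect X 1).ker.support
  · obtain ⟨v, hv⟩ : b (j y') ∈ Set.range (w ≫ P1.sect X 1) := by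
      have h : b (j y') ∈ ((w ≫ P1.sect X 1).ker.support : Set _) := hz
      rwa [Scheme.Hom.support_ker, (w ≫ P1.sect X 1).isClosedEmbedding.isClosed_range.closure_eq] at h
    obtain ⟨D, hvD, fs, gs, hfl, hreg, hki, hkw⟩ := hw v
    obtain ⟨U, hp, hs, e, heC, hev⟩ := exists_inf_chart D
    let cs : List Γ(CohB1.ProjSpaceOver 1 X, U.1) :=
      ((fs ++ gs).map MvPolynomial.C ++ [MvPolynomial.X (⟨0, by decide⟩ : ChartVar 1 1)]).map e
    have hcentre : (w ≫ P1.sect X 1).ker.ideal U = Ideal.ofList cs := by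
      rw [ker_comp_ideal w _ U D hs, hkw, comap_equiv e _ _ hev, comap_constantCoeff, Ideal.map_ofList]
      rfl
    have hcs : RegMod ⊥ cs := regMod_bot_map e (poly_regMod _ hreg)
    have hlen : c ≤ cs.length := by simp [cs, ← hfl]
    let l : List (Fin cs.length) := List.ofFn fun k : Fin c => ⟨k.1, lt_of_lt_of_le k.2 hlen⟩
    have hl : l.map cs.get = cs.take c := by
      apply List.ext_getElem
      · simp [l, hlen]
      · intro n h1 h2; simp [l]
    have htake : cs.take c = (fs.map MvPolynomial.C).map e := by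
      simp only [cs, ← List.map_take, List.map_append, List.append_assoc]
      rw [List.take_left' (by simp [hfl])]
    have hmem : b (j y') ∈ U.1 := by
      rw [← hv, Scheme.Hom.comp_apply]
      exact (show w v ∈ P1.sect X 1 ⁻¹ᵁ U.1 by rw [hs]; exact hvD)
    obtain ⟨W, hW, hcl, rs, hrl, hrs, hker⟩ := regularAt_strictTransform (w ≫ P1.sect X 1).ker (P1.toP1 i)
      hb hb' j hj U cs.get (hcentre.trans (ofList_eq_span_get cs))
      (Groth.L07.QReg.isQuasiRegular_of_isWeaklyRegular (by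
        rw [List.ofFn_get]; exact isWeaklyRegular_of_regMod hcs))
      l (List.nodup_ofFn.2 fun a a' h => by simpa [Fin.ext_iff] using h) []
      (by
        rw [List.append_nil, hl, htake, ker_toP1, Ideals.comap_ideal p i.ker D U hp, hki, Ideal.map_ofList,
          List.map_map]
        congr 1
        exact List.map_congr_left fun a _ => (heC a).symm)
      (by
        rw [List.append_nil, hl]
        intro n hn z hz
        rw [List.length_take] at hn
        rw [List.getElem_take, List.take_take, min_eq_left (by omega)] at hz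
        rw [List.take_take, min_eq_left (by omega)]
        exact hcs n (by omega) z hz)
      (fun n hn => absurd hn (Nat.not_lt_zero n)) y' hmem
    exact ⟨W, hW, hcl, rs, by simpa [l] using hrl, hrs, hker⟩
  · have hzi : p (b (j y')) ∈ Set.range i := by
      refine ⟨CohB1.ProjSpaceOver.toBase 1 Y (b' y'), ?_⟩
      rw [apply_comm hj y']
      exact (apply_comm (isPullback_toBase i).w (b' y')).symm
    obtain ⟨v, hv⟩ := hzi
    obtain ⟨D, hvD, -, fs, hfl, hreg, hki⟩ := hi.2 v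
    obtain ⟨_, ⟨U, hU, rfl⟩, hzU, hle⟩ := (CohB1.ProjSpaceOver 1 X).isBasis_affineOpens.exists_subset_of_mem_open
      (show b (j y') ∈ p ⁻¹ᵁ D.1 ⊓ (w ≫ P1.sect X 1).ker.support.compl from ⟨(by show p _ ∈ D.1; rw [← hv]; exact hvD), hz⟩)
      (p ⁻¹ᵁ D.1 ⊓ (w ≫ P1.sect X 1).ker.support.compl).2
    replace hU : IsAffineOpen U := hU
    have hp : U ≤ p ⁻¹ᵁ D.1 := fun x hx => (hle hx).1
    have hflat : (p.appLE D.1 U hp).hom.Flat := Flat.flat_appLE p D.2 hU hp
    letI := (p.appLE D.1 U hp).hom.toAlgebra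
    haveI : Module.Flat Γ(X, D.1) Γ(CohB1.ProjSpaceOver 1 X, U) := RingHom.flat_algebraMap_iff.1 hflat
    have hF : sI (fun _ : Fin 1 => (1 : Γ(CohB1.ProjSpaceOver 1 X, U))) = ⊤ := by
      rw [Ideal.eq_top_iff_one]; exact Ideal.subset_span ⟨0, rfl⟩
    obtain ⟨W, hW, hcl, rs, hrl, hrs, hker⟩ := regularAt_strictTransform (w ≫ P1.sect X 1).ker (P1.toP1 i)
      hb hb' j hj ⟨U, hU⟩ (fun _ : Fin 1 => (1 : Γ(CohB1.ProjSpaceOver 1 X, U)))
      ((ideal_eq_top_of_disjoint _ ⟨U, hU⟩ fun x hx => (hle hx).2).trans hF.symm)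
      (fun n P _ _ d => by
        rw [show Ideal.span (Set.range fun _ : Fin 1 => (1 : Γ(CohB1.ProjSpaceOver 1 X, U))) = ⊤ from hF]
        exact Submodule.mem_top)
      [] List.nodup_nil (fs.map (algebraMap Γ(X, D.1) Γ(CohB1.ProjSpaceOver 1 X, U)))
      (by
        rw [ker_toP1, Ideals.comap_ideal p i.ker D ⟨U, hU⟩ hp, Scheme.Hom.ker_apply, hki, Ideal.map_ofList]
        rfl)
      (regMod_bot_of_isWeaklyRegular hreg.toIsWeaklyRegular.of_flat)
      (by intro n hn z _; rw [hF, top_sup_eq]; exact Submodule.mem_top) y' hzU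
    exact ⟨W, hW, hcl, rs, by simpa [hfl] using hrl, hrs, hker⟩

end Groth.L07.BlowLib
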