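import Groth.Agent.L07.QuasiRegular
import Groth.Agent.L11.BlowSmooth.Sch
import Groth.Agent.L22.BlowUp
import Groth.Agent.L13.LiaisonCM
import Groth.Agent.L02.CMMor.Local
import Groth.Agent.L04.CMBasic
import Groth.Agent.L12.FiltReesPunct
import Groth.Agent.S2092
import Groth.Prelude.Def_RegImm

/-! Blow-ups of Cohen–Macaulay schemes in regular ideals are Cohen–Macaulay. -/

set_option autoImplicit false
set_option linter.style.haveILetI false
set_option maxSynthPendingDepth 3
set_option maxHeartbeats 1600000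

universe u

open CategoryTheory AlgebraicGeometry IsLocalRing RingTheory.Sequence

namespace Groth.L07.BlowLib

open Groth.L13.BU Groth.L22 Groth.L11.BlowSmooth

section Local

variable {F : Type u} [CommRing F] [IsLocalRing F] [IsNoetherianRing F]

theorem invariants_quotient (I : Ideal F) (hI : I ≠ ⊤) (M : Type u) [AddCommGroup M] [Module F M]
    (e : M ≃ₗ[F] (F ⧸ I)) [IsLocalRing (F ⧸ I)] :
    Module.supportDim F M = ringKrullDim (F ⧸ I) ∧ LocCoh.depth F M = LocCoh.depth (F ⧸ I) (F ⧸ I) := by
  refine ⟨by rw [Module.supportDim_eq_of_equiv e, Module.supportDim_quotient_eq_ringKrullDim], ?_⟩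
  rw [LocCoh.depth, Groth.L04.idealDepth_congr e,
    Groth.L04.idealDepth_eq_idealDepth_map_of_finite (B := F ⧸ I) (maximalIdeal F) (F ⧸ I),
    show (maximalIdeal F).map (algebraMap F (F ⧸ I)) = maximalIdeal (F ⧸ I) from
      IsLocalRing.map_maximalIdeal_of_surjective _ Ideal.Quotient.mk_surjective]
  rfl

theorem cm_quot_of_cm (h : LocCoh.IsCohenMacaulayLocalRing F) (rs : List F) (hrs : IsWeaklyRegular F rs)
    (hm : ∀ r ∈ rs, r ∈ maximalIdeal F) : LocCoh.IsCohenMacaulayLocalRing (F ⧸ Ideal.ofList rs) := by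
  have hle : Ideal.ofList rs ≤ maximalIdeal F := Ideal.span_le.2 hm
  have hne : Ideal.ofList rs ≠ ⊤ := fun he => (maximalIdeal.isMaximal F).ne_top (top_le_iff.1 (he ▸ hle))
  haveI : Nontrivial (F ⧸ Ideal.ofList rs) := Ideal.Quotient.nontrivial_iff.2 hne
  haveI : IsLocalRing (F ⧸ Ideal.ofList rs) := .of_surjective' _ Ideal.Quotient.mk_surjective
  have h1 := Groth.L04.isCohenMacaulayModule_quotient_ofList h.supportDim_eq_depth hrs hm
  obtain ⟨hd, hp⟩ := invariants_quotient (Ideal.ofList rs) hne _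
    (Submodule.quotEquivOfEq _ _ (show Ideal.ofList rs • (⊤ : Submodule F F) = Ideal.ofList rs by
      rw [smul_eq_mul, Ideal.mul_top]))
  unfold LocCoh.IsCohenMacaulayModule at h1
  rw [hd, hp] at h1
  exact { supportDim_eq_depth := by rw [Module.supportDim_self_eq_ringKrullDim]; exact h1 }

theorem cm_of_cm_quot (a : F) (ha : a ∈ maximalIdeal F) (hreg : IsSMulRegular F a)
    (h : LocCoh.IsCohenMacaulayLocalRing (F ⧸ Ideal.span {a})) : LocCoh.IsCohenMacaulayLocalRing F := by
  have hrs : IsWeaklyRegular F [a] := (isWeaklyRegular_singleton_iff _ _).mpr hreg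
  have hI : ∀ r ∈ [a], r ∈ maximalIdeal F := fun r hr => (List.mem_singleton.mp hr) ▸ ha
  have hne : Ideal.span {a} ≠ ⊤ := fun he =>
    (maximalIdeal.isMaximal F).ne_top (top_le_iff.mp (he ▸ (Ideal.span_singleton_le_iff_mem _).mpr ha))
  haveI := h
  obtain ⟨hd, hp⟩ := invariants_quotient (Ideal.span {a}) hne _
    (Submodule.quotEquivOfEq _ _ (show Ideal.ofList [a] • (⊤ : Submodule F F) = Ideal.span {a} by
      rw [smul_eq_mul, Ideal.mul_top, Ideal.ofList_singleton]))
  have h1 := Groth.L04.supportDim_quotient_ofList_add (M := F) hrs hI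
  have h2 := Groth.L04.depth_quotient_ofList_add (M := F) hrs hI
  have h3 := h.supportDim_eq_depth
  rw [Module.supportDim_self_eq_ringKrullDim] at h3
  rw [hd, h3] at h1
  rw [hp] at h2
  refine { supportDim_eq_depth := ?_ }
  rw [← h1, ← h2, WithBot.coe_add]
  rfl

end Local

section Ring

variable {A : Type u} [CommRing A]

/-- localisation commutes with quotients -/
theorem cm_quot_prime_iff (I : Ideal A) (P : Ideal (A ⧸ I)) [P.IsPrime] :
    LocCoh.IsCohenMacaulayLocalRing (Localization.AtPrime P) ↔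
      LocCoh.IsCohenMacaulayLocalRing (Localization.AtPrime (P.comap (Ideal.Quotient.mk I)) ⧸
        I.map (algebraMap A (Localization.AtPrime (P.comap (Ideal.Quotient.mk I))))) := by
  let q := P.comap (Ideal.Quotient.mk I)
  let L := Localization.AtPrime q
  have hM : Algebra.algebraMapSubmonoid (A ⧸ I) q.primeCompl = P.primeCompl := by
    ext x
    constructor
    · rintro ⟨y, hy, rfl⟩
      exact hy
    · intro hx
      obtain ⟨y, rfl⟩ := Ideal.Quotient.mk_surjective x
      exact ⟨y, hx, rfl⟩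
  haveI : IsLocalization P.primeCompl (L ⧸ I.map (algebraMap A L)) := hM ▸ inferInstance
  let e := (IsLocalization.algEquiv P.primeCompl (Localization.AtPrime P) (L ⧸ I.map (algebraMap A L))).toRingEquiv
  exact ⟨Groth.L13.LiaisonCM.cm_of_ringEquiv e, Groth.L13.LiaisonCM.cm_of_ringEquiv e.symm⟩

theorem cmRing_quot [hA : LocCoh.IsCohenMacaulayRing A] (rs : List A) (hrs : IsWeaklyRegular A rs) :
    LocCoh.IsCohenMacaulayRing (A ⧸ Ideal.ofList rs) :=
  { isCohenMacaulayLocalRing_localization := fun P _ => by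
      rw [cm_quot_prime_iff]
      let q := P.comap (Ideal.Quotient.mk (Ideal.ofList rs))
      let L := Localization.AtPrime q
      haveI : IsNoetherianRing L := IsLocalization.isNoetherianRing q.primeCompl _ inferInstance
      haveI : Module.Flat A L := IsLocalization.flat L q.primeCompl
      have hm : ∀ r ∈ rs.map (algebraMap A L), r ∈ maximalIdeal L := fun r hr => by
        obtain ⟨x, hx, rfl⟩ := List.mem_map.1 hr
        refine (IsLocalization.AtPrime.to_map_mem_maximal_iff L q x).2 ?_
        show Ideal.Quotient.mk _ x ∈ P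
        rw [Ideal.Quotient.eq_zero_iff_mem.2 (Ideal.subset_span (s := {r | r ∈ rs}) hx)]
        exact zero_mem _
      rw [Ideal.map_ofList]
      exact cm_quot_of_cm (hA.isCohenMacaulayLocalRing_localization q) _ hrs.of_flat hm }

theorem cmRing_mvPolynomial {σ : Type} [Finite σ] [LocCoh.IsCohenMacaulayRing A] :
    LocCoh.IsCohenMacaulayRing (MvPolynomial σ A) := by
  haveI := Fintype.ofFinite σ
  haveI := Groth.Agent.S2092.result (R := A) (Fintype.card σ)
  exact Groth.L12.FiltReesExt.cm_ring_of_equiv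
    (MvPolynomial.renameEquiv A (Fintype.equivFin σ).symm).toRingEquiv

/-- lifting along a regular element -/
theorem cm_at_of_quot [IsNoetherianRing A] (f : A) (hf : f ∈ nonZeroDivisors A) (P : Ideal A) [P.IsPrime]
    (hP : f ∈ P) [h : LocCoh.IsCohenMacaulayRing (A ⧸ Ideal.span {f})] :
    LocCoh.IsCohenMacaulayLocalRing (Localization.AtPrime P) := by
  let π := Ideal.Quotient.mk (Ideal.span {f})
  have hker : RingHom.ker π ≤ P := by
    rw [Ideal.mk_ker, Ideal.span_singleton_le_iff_mem]; exact hP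
  haveI : (P.map π).IsPrime := Ideal.map_isPrime_of_surjective Ideal.Quotient.mk_surjective hker
  have hcm := (cm_quot_prime_iff (Ideal.span {f}) (P.map π)).1 (h.isCohenMacaulayLocalRing_localization _)
  have key : ∀ (J : Ideal A) (hJ : J.IsPrime), J = P →
      LocCoh.IsCohenMacaulayLocalRing (@Localization.AtPrime _ _ J hJ ⧸
        (Ideal.span {f}).map (algebraMap A (@Localization.AtPrime _ _ J hJ))) →
      LocCoh.IsCohenMacaulayLocalRing (Localization.AtPrime P) := by
    rintro J hJ rfl hq
    rw [Ideal.map_span, Set.image_singleton] at hq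
    let L := Localization.AtPrime J
    haveI : IsNoetherianRing L := IsLocalization.isNoetherianRing J.primeCompl _ inferInstance
    haveI : Module.Flat A L := IsLocalization.flat L J.primeCompl
    refine cm_of_cm_quot _ ((IsLocalization.AtPrime.to_map_mem_maximal_iff L J f).2 hP) ?_ hq
    have h1 : IsWeaklyRegular A [f] := (isWeaklyRegular_singleton_iff _ _).mpr
      (isSMulRegular_iff_right_eq_zero_of_smul.2 fun x hx => (mem_nonZeroDivisors_iff_left.1 hf) x (by simpa using hx))
    simpa using (isWeaklyRegular_singleton_iff L (algebraMap A L f)).1 (by simpa using h1.of_flat (S := L))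
  refine key _ _ ?_ hcm
  rw [Ideal.comap_map_of_surjective' π Ideal.Quotient.mk_surjective, sup_eq_left.2 hker]

/-- the blow-up chart is Cohen–Macaulay along the exceptional divisor -/
theorem cm_chart {m : ℕ} [LocCoh.IsCohenMacaulayRing A] (F : Fin m → A) (i : Fin m)
    (hF : IsWeaklyRegular A (List.ofFn F)) [IsNoetherianRing (SC F i)] (P : Ideal (SC F i)) [P.IsPrime]
    (hP : sh F i (F i) ∈ P) : LocCoh.IsCohenMacaulayLocalRing (Localization.AtPrime P) := by
  haveI : LocCoh.IsCohenMacaulayRing (A ⧸ sI F) := by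
    have h := cmRing_quot (List.ofFn F) hF
    rwa [show Ideal.ofList (List.ofFn F) = sI F by
      rw [Ideal.ofList]; congr 1; ext x; simp] at h
  haveI : LocCoh.IsCohenMacaulayRing (MvPolynomial {j : Fin m // j ≠ i} (A ⧸ sI F)) := cmRing_mvPolynomial
  have hq := Groth.L07.QReg.isQuasiRegular_of_isWeaklyRegular hF
  haveI : LocCoh.IsCohenMacaulayRing (SC F i ⧸ Ideal.span {sh F i (F i)}) :=
    Groth.L12.FiltReesExt.cm_ring_of_equiv
      ((RingEquiv.ofBijective (pres F i) ⟨pres_injective F i hq, pres_surjective F i⟩).trans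
        (Ideal.quotEquivOfEq (map_ideal (sI F) (F i) (mem_pow_one F i))))
  exact cm_at_of_quot _ (chartHom_nonZeroDivisor (sI F) (F i) (mem_pow_one F i)) P hP

end Ring

section Scheme

theorem cm_stalk_Spec {R : Type u} [CommRing R] (p : PrimeSpectrum R)
    (h : LocCoh.IsCohenMacaulayLocalRing (Localization.AtPrime p.asIdeal)) :
    LocCoh.IsCohenMacaulayLocalRing ((Spec (CommRingCat.of R)).presheaf.stalk p) :=
  L02.CMMor.cm_of_ringEquiv (Spec.stalkIso (CommRingCat.of R) p).commRingCatIsoToRingEquiv.symm h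

variable {W T : Scheme.{u}} [IsLocallyNoetherian W]

theorem cm_blowUp (hcm : ∀ w : W, LocCoh.IsCohenMacaulayLocalRing (W.presheaf.stalk w))
    (I : W.IdealSheafData) (hI : RegImm.IsRegularIdeal RegImm.Kind.regular I)
    (π : T ⟶ W) (hπ : BlowUp.IsBlowUp π I) [IsLocallyNoetherian T] (t : T) :
    LocCoh.IsCohenMacaulayLocalRing (T.presheaf.stalk t) := by
  classical
  by_cases ht : π t ∈ I.support
  swap
  · haveI := Groth.L22.Ideals.isIso_stalkMap hπ t ht
    exact L02.CMMor.cm_of_ringEquiv (asIso (π.stalkMap t)).commRingCatIsoToRingEquiv (hcm _)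
  obtain ⟨U, htU, rs, hrs, hIU⟩ := hI _ ht
  haveI : IsNoetherianRing Γ(W, U.1) := IsLocallyNoetherian.component_noetherian U
  haveI : LocCoh.IsCohenMacaulayRing Γ(W, U.1) :=
    { isCohenMacaulayLocalRing_localization := fun p hp => by
        let w : U.1 := ⟨U.2.fromSpec ⟨p, hp⟩, by
          show _ ∈ (U.1 : Set W); rw [← U.2.range_fromSpec]; exact ⟨_, rfl⟩⟩
        letI : Algebra Γ(W, U.1) (W.presheaf.stalk w.1) := (W.presheaf.germ U.1 w.1 w.2).hom.toAlgebra
        haveI : IsLocalization.AtPrime (W.presheaf.stalk w.1) p := U.2.isLocalization_stalk' ⟨p, hp⟩ w.2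
        exact L02.CMMor.cm_of_ringEquiv
          (IsLocalization.algEquiv p.primeCompl (W.presheaf.stalk w.1) (Localization.AtPrime p)).toRingEquiv
          (hcm _) }
  have hspan : I.ideal U = sI rs.get := by
    rw [hIU, sI, Ideal.ofList]; congr 1; ext x; simp [List.mem_iff_get]
  obtain ⟨k, j, hj, ⟨P, rfl⟩, hjb⟩ := exists_blowUp_chart π I hπ U rs.get hspan t htU
  haveI := hj
  haveI : IsNoetherianRing (SC rs.get k) := by
    haveI : IsLocallyNoetherian (Spec (CommRingCat.of (SC rs.get k))) := isLocallyNoetherian_of_isOpenImmersion j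
    exact (isNoetherian_Spec (R := CommRingCat.of (SC rs.get k))).1 {}
  have hP : sh rs.get k (rs.get k) ∈ P.asIdeal := by
    let q := Spec.map (CommRingCat.ofHom (sh rs.get k)) P
    have he : U.2.fromSpec q = π (j P) := by
      show U.2.fromSpec (Spec.map (CommRingCat.ofHom (sh rs.get k)) P) = _
      rw [← Scheme.Hom.comp_apply, ← hjb, Scheme.Hom.comp_apply]
    have h1 : q ∈ U.2.fromSpec ⁻¹' W.zeroLocus (U := U.1) (I.ideal U : Set Γ(W, U.1)) := by
      rw [Set.mem_preimage]
      rw [he]
      exact ((Set.ext_iff.1 (I.coe_support_inter U) _).1 ⟨ht, htU⟩).1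
    rw [U.2.fromSpec_preimage_zeroLocus] at h1
    exact h1 (show rs.get k ∈ I.ideal U by rw [hspan]; exact Ideal.subset_span ⟨k, rfl⟩)
  haveI := hj
  refine L02.CMMor.cm_of_ringEquiv (asIso (j.stalkMap P)).commRingCatIsoToRingEquiv.symm (cm_stalk_Spec P ?_)
  exact @cm_chart _ _ _ _ rs.get k (by rw [List.ofFn_get]; exact hrs.toIsWeaklyRegular) _ P.asIdeal P.isPrime hP

end Scheme

end Groth.L07.BlowLib
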