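import Groth.Agent.L13.BlowUp.Exists
import Groth.Agent.L20.AffineBlowup

/-! The chart of a Rees algebra is the affine blow-up algebra. -/

set_option autoImplicit false

universe u

open CategoryTheory CategoryTheory.Limits AlgebraicGeometry TopologicalSpace Opposite

namespace Groth.L07.BlowLib

open Groth.L13.BU

variable {A : Type u} [CommRing A] (I : Ideal A) (a : A) (ha : a ∈ I ^ 1)

theorem exists_chart_equiv : ∃ e : Chart I a ha ≃+* ↥(BlowUp.affineAlgebra A I a),
    e.toRingHom.comp (chartHom I a ha) = algebraMap A ↥(BlowUp.affineAlgebra A I a) := by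
  have ha1 : a ∈ I := by simpa using ha
  have hu : IsUnit (algebraMap A (Localization.Away a) a) :=
    IsLocalization.Away.algebraMap_isUnit (S := Localization.Away a) a
  obtain ⟨ψ, hψ⟩ := exists_chart_lift I a ha (algebraMap A (Localization.Away a))
    hu.mem_nonZeroDivisors (fun x _ => hu.dvd)
  have hval : ∀ n c (hc : c ∈ I ^ n), ψ (frac I a ha n c hc) =
      IsLocalization.mk' (Localization.Away a) c (⟨a ^ n, n, rfl⟩ : Submonoid.powers a) := by
    intro n c hc
    rw [IsLocalization.eq_mk'_iff_mul_eq, ← hψ]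
    have h := congrArg ψ (pow_mul_frac I a ha n c hc)
    have h' : ψ (chartHom I a ha a) ^ n * ψ (frac I a ha n c hc) = ψ (chartHom I a ha c) :=
      ((congrArg (· * ψ (frac I a ha n c hc)) (map_pow ψ (chartHom I a ha a) n)).symm.trans
        (map_mul ψ _ _).symm).trans h
    refine Eq.trans ?_ h'
    rw [RingHom.comp_apply, map_pow, mul_comm]
    exact congrArg (· * ψ (frac I a ha n c hc)) (map_pow ψ (chartHom I a ha a) n)
  have hinj : Function.Injective ψ := by
    rw [injective_iff_map_eq_zero]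
    intro z hz
    obtain ⟨n, c, hc, rfl⟩ := frac_surjective I a ha z
    rw [hval, Groth.L20.mk'_eq_zero_iff_pow] at hz
    obtain ⟨k, hk⟩ := hz
    exact frac_eq_zero I a ha hc hk
  have hmem : ∀ z, ψ z ∈ (BlowUp.affineAlgebra A I a).toSubring := by
    intro z
    obtain ⟨n, c, hc, rfl⟩ := frac_surjective I a ha z
    rw [hval]
    exact Groth.L20.mk'_mem_affineAlgebra hc
  let χ : Chart I a ha →+* (BlowUp.affineAlgebra A I a).toSubring := ψ.codRestrict _ hmem
  have hbij : Function.Bijective χ := by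
    refine ⟨fun x y hxy => hinj (congrArg Subtype.val hxy), fun q => ?_⟩
    obtain ⟨n, x, hx, hq⟩ := Groth.L20.exists_mk'_of_mem_affineAlgebra ha1 q.2
    exact ⟨frac I a ha n x hx, Subtype.ext ((hval n x hx).trans hq.symm)⟩
  refine ⟨RingEquiv.ofBijective χ hbij, RingHom.ext fun r => Subtype.ext ?_⟩
  exact congrArg (fun f : A →+* Localization.Away a => f r) hψ

/-- every point of a blow-up of `Spec A` lies in an affine blow-up chart -/
theorem exists_affineAlgebra_nhd {X' : Scheme.{u}} (b : X' ⟶ Spec (CommRingCat.of A))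
    (hb : BlowUp.IsBlowUp b (idealOf I)) (x' : X') :
    ∃ (a : A) (_ : a ∈ I) (V : X'.Opens)
      (e : (V : Scheme.{u}) ≅ Spec (CommRingCat.of ↥(BlowUp.affineAlgebra A I a))),
      x' ∈ V ∧ e.hom ≫ Spec.map (CommRingCat.ofHom (algebraMap A ↥(BlowUp.affineAlgebra A I a))) =
        V.ι ≫ b := by
  obtain ⟨k, hk, -⟩ := hb.2 _ (reesToSpec I) (isBlowUp_rees I).1
  have : IsIso k := isIso_of_blowUps hb (isBlowUp_rees I) k hk
  obtain ⟨p, hp⟩ := k.surjective x'
  obtain ⟨⟨a, ha⟩, hpa⟩ := Opens.mem_iSup.1 ((iSup_chart I).ge (Set.mem_univ p))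
  obtain ⟨e, he⟩ := exists_chart_equiv I a ha
  let j := chartι I a ha ≫ k
  refine ⟨a, by simpa using ha, j.opensRange,
    j.isoOpensRange.symm ≪≫ Scheme.Spec.mapIso e.toCommRingCatIso.op.symm, ?_, ?_⟩
  · have hp' : p ∈ (chartι I a ha).opensRange := by rw [Proj.opensRange_awayι]; exact hpa
    obtain ⟨q, hq⟩ := hp'
    exact ⟨q, by show k ((chartι I a ha) q) = x'; rw [hq, hp]⟩
  · rw [← cancel_epi j.isoOpensRange.hom]
    simp only [Iso.trans_hom, Iso.symm_hom, Category.assoc, Iso.hom_inv_id_assoc]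
    show _ = j.isoOpensRange.hom ≫ j.opensRange.ι ≫ b
    rw [Scheme.Hom.isoOpensRange_hom_ι_assoc]
    show Spec.map e.toCommRingCatIso.inv ≫ _ = (chartι I a ha ≫ k) ≫ b
    rw [Category.assoc, show k ≫ b = reesToSpec I from hk, chartι_reesToSpec, ← Spec.map_comp]
    congr 1
    refine CommRingCat.hom_ext (RingHom.ext fun r => ?_)
    show e.symm (algebraMap A _ r) = chartHom I a ha r
    exact e.symm_apply_eq.2 (congrArg (fun f : A →+* _ => f r) he).symm

end Groth.L07.BlowLib
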