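import Groth.Agent.L22.BlowUp
import Mathlib.AlgebraicGeometry.Morphisms.SchemeTheoreticallyDominant

/-! The complement of the exceptional divisor is scheme-theoretically dense. -/

set_option autoImplicit false
set_option linter.style.haveILetI false

universe u

open CategoryTheory CategoryTheory.Limits AlgebraicGeometry TopologicalSpace Opposite

namespace Groth.L07.BlowLib

open Groth.L22

variable {X X' : Scheme.{u}} {I : X.IdealSheafData} {b : X' ⟶ X}

theorem schDominant_compl (hb : BlowUp.IsBlowUp b I) :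
    IsSchemeTheoreticallyDominant (b ⁻¹ᵁ I.support.compl).ι := by
  refine ⟨Scheme.IdealSheafData.ext (funext fun V => ?_)⟩
  rw [Scheme.IdealSheafData.ideal_bot, Pi.bot_apply, ← le_bot_iff]
  intro s hs
  have hs' : (b ⁻¹ᵁ I.support.compl).ι.app V.1 s = 0 := Scheme.Hom.ideal_ker_le _ V hs
  rw [Scheme.Opens.ι_app] at hs'
  refine Ideals.eq_zero_of_eq_zero_off_exceptional hb s fun x hxV hx => ?_
  have hxW : x ∈ (b ⁻¹ᵁ I.support.compl).ι ''ᵁ ((b ⁻¹ᵁ I.support.compl).ι ⁻¹ᵁ V.1) :=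
    ⟨⟨x, hx⟩, hxV, rfl⟩
  have h1 := congrArg (X'.presheaf.germ _ x hxW) hs'
  replace h1 := h1.trans (map_zero (X'.presheaf.germ _ x hxW).hom)
  exact (TopCat.Presheaf.germ_res_apply _ _ x hxW s).symm.trans h1

/-- a quasi-compact schematically dense open missing the centre stays dense on the blow-up -/
theorem schDominant_preimage (hb : BlowUp.IsBlowUp b I) (U : X.Opens)
    [IsSchemeTheoreticallyDominant U.ι] [QuasiCompact U.ι] :
    IsSchemeTheoreticallyDominant (b ⁻¹ᵁ U).ι := by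
  haveI := schDominant_compl hb
  haveI := Ideals.isIso_restrict_compl hb
  haveI : Flat ((b ⁻¹ᵁ I.support.compl).ι ≫ b) := by
    rw [← morphismRestrict_ι]
    infer_instance
  let h := pullback.fst ((b ⁻¹ᵁ I.support.compl).ι ≫ b) U.ι
  have hrange : Set.range (h ≫ (b ⁻¹ᵁ I.support.compl).ι) ⊆ Set.range (b ⁻¹ᵁ U).ι := by
    rintro _ ⟨y, rfl⟩
    rw [Scheme.Opens.range_ι]
    show b ((h ≫ (b ⁻¹ᵁ I.support.compl).ι) y) ∈ U
    rw [← Scheme.Hom.comp_apply, Category.assoc]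
    show (pullback.fst ((b ⁻¹ᵁ I.support.compl).ι ≫ b) U.ι ≫ (b ⁻¹ᵁ I.support.compl).ι ≫ b) y ∈ U
    rw [pullback.condition, Scheme.Hom.comp_apply]
    exact (pullback.snd ((b ⁻¹ᵁ I.support.compl).ι ≫ b) U.ι y).2
  refine ⟨le_bot_iff.1 ?_⟩
  have hle := Scheme.Hom.le_ker_comp (IsOpenImmersion.lift _ _ hrange) (b ⁻¹ᵁ U).ι
  rw [IsOpenImmersion.lift_fac] at hle
  exact hle.trans (le_of_eq (h ≫ (b ⁻¹ᵁ I.support.compl).ι).ker_eq_bot)

end Groth.L07.BlowLib
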