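import Groth.Agent.L07.BlowLib.DeformStrict
import Groth.Agent.L13.BlowUp.Local
import Groth.Agent.L22.FlatPullback
import Mathlib.AlgebraicGeometry.Morphisms.Finite

/-! A finite morphism which is an isomorphism off an effective Cartier divisor is a blow-up. -/

set_option autoImplicit false
set_option linter.style.haveILetI false
set_option maxSynthPendingDepth 3
set_option maxHeartbeats 1600000
set_option backward.isDefEq.respectTransparency false
set_option backward.isDefEq.respectTransparency.types false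

universe u

open CategoryTheory CategoryTheory.Limits AlgebraicGeometry TopologicalSpace Opposite

namespace Groth.L07.BlowLib

open Groth.L22

variable {X Y : Scheme.{u}}

section Alg

variable {A B R : Type u} [CommRing A] [CommRing B] [CommRing R] (φ : A →+* B)

theorem existsUnique_lift (t : A) (n : ℕ) (hinj : Function.Injective φ)
    (hden : ∀ b, ∃ a, φ a = φ t ^ n * b) (χ : A →+* R) (u : R) (hu : u ∈ nonZeroDivisors R)
    (hI : ((Ideal.span {φ t ^ n}).comap φ).map χ = Ideal.span {u}) :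
    ∃! ψ : B →+* R, ψ.comp φ = χ := by
  classical
  let I := (Ideal.span {φ t ^ n}).comap φ
  have hII : ∀ x ∈ I * I, ∃ y ∈ I, x = t ^ n * y := fun x hx => by
    induction hx using Submodule.mul_induction_on' with
    | mem_mul_mem a ha a' ha' =>
      obtain ⟨b, hb⟩ := Ideal.mem_span_singleton.1 (Ideal.mem_comap.1 ha)
      obtain ⟨b', hb'⟩ := Ideal.mem_span_singleton.1 (Ideal.mem_comap.1 ha')
      obtain ⟨y, hy⟩ := hden (b * b')
      refine ⟨y, Ideal.mem_comap.2 (Ideal.mem_span_singleton.2 ⟨_, hy⟩), hinj ?_⟩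
      rw [map_mul, map_mul, map_pow, hy, hb, hb']
      ring
    | add x _ y _ hx hy =>
      obtain ⟨a, ha, rfl⟩ := hx
      obtain ⟨a', ha', rfl⟩ := hy
      exact ⟨a + a', add_mem ha ha', by rw [mul_add]⟩
  have hsq : u * u ∈ Ideal.span {χ (t ^ n) * u} := by
    have h1 : u * u ∈ (I * I).map χ := by
      rw [Ideal.map_mul, hI]
      exact Ideal.mul_mem_mul (Ideal.mem_span_singleton_self u) (Ideal.mem_span_singleton_self u)
    refine (Ideal.map_le_iff_le_comap.2 fun x hx => ?_ : (I * I).map χ ≤ _) h1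
    obtain ⟨y, hy, rfl⟩ := hII x hx
    obtain ⟨r, hr⟩ := Ideal.mem_span_singleton.1 (hI.le (Ideal.mem_map_of_mem χ hy))
    rw [Ideal.mem_comap, map_mul, hr, ← mul_assoc]
    exact Ideal.mul_mem_right _ _ (Ideal.mem_span_singleton_self _)
  obtain ⟨r, hr⟩ := Ideal.mem_span_singleton.1 hsq
  have hur : u = χ (t ^ n) * r := (mul_cancel_right_mem_nonZeroDivisors hu).1 (by rw [hr]; ring)
  have hs : χ (t ^ n) ∈ nonZeroDivisors R := (mul_mem_nonZeroDivisors.1 (hur ▸ hu)).1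
  have hdiv : ∀ a ∈ I, ∃ s, χ (t ^ n) * s = χ a := fun a ha => by
    obtain ⟨v, hv⟩ := Ideal.mem_span_singleton.1 (hI.le (Ideal.mem_map_of_mem χ ha))
    exact ⟨r * v, by rw [hv, hur]; ring⟩
  have hex : ∀ b, ∃ s, ∃ a, φ a = φ t ^ n * b ∧ χ (t ^ n) * s = χ a := fun b => by
    obtain ⟨a, ha⟩ := hden b
    obtain ⟨s, hs⟩ := hdiv a (Ideal.mem_comap.2 (Ideal.mem_span_singleton.2 ⟨b, ha⟩))
    exact ⟨s, a, ha, hs⟩
  choose ψ a ha hψ using hex
  have key : ∀ b x s, φ x = φ t ^ n * b → χ (t ^ n) * s = χ x → ψ b = s := fun b x s hx hxs => by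
    refine (mul_cancel_left_mem_nonZeroDivisors hs).1 ?_
    rw [hψ, hxs, hinj ((ha b).trans hx.symm)]
  refine ⟨{ toFun := ψ
            map_one' := key 1 (t ^ n) 1 (by simp) (by simp)
            map_mul' := fun b c => by
              obtain ⟨x, hx⟩ := hden (b * c)
              refine key _ x _ hx ?_
              have h2 : t ^ n * x = a b * a c := hinj (by rw [map_mul, map_mul, map_pow, hx, ha, ha]; ring)
              refine (mul_cancel_left_mem_nonZeroDivisors hs).1 ?_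
              rw [← map_mul χ (t ^ n) x, h2, map_mul, ← hψ, ← hψ]
              ring
            map_zero' := key 0 0 0 (by simp) (by simp)
            map_add' := fun b c => key _ (a b + a c) _ (by rw [map_add, ha, ha, mul_add])
              (by rw [mul_add, hψ, hψ, map_add]) }, ?_, ?_⟩
  · refine RingHom.ext fun x => key (φ x) (t ^ n * x) (χ x) (by simp) (by simp)
  · intro ψ' hψ'
    refine RingHom.ext fun b => ?_
    refine (key b (a b) _ (ha b) ?_).symm
    rw [← RingHom.congr_fun hψ' (t ^ n), ← RingHom.congr_fun hψ' (a b), RingHom.comp_apply, RingHom.comp_apply,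
      ← map_mul, ha, map_pow]

end Alg

theorem ker_subschemeι_comp (J : X.IdealSheafData) (f : X ⟶ Y) [IsAffineHom f] (U : Y.affineOpens) :
    (J.subschemeι ≫ f).ker.ideal U =
      (J.ideal ⟨f ⁻¹ᵁ U.1, U.2.preimage f⟩).comap (f.appLE U.1 (f ⁻¹ᵁ U.1) le_rfl).hom := by
  rw [ker_comp_ideal J.subschemeι f U ⟨f ⁻¹ᵁ U.1, U.2.preimage f⟩ rfl, Scheme.IdealSheafData.ker_subschemeι]

variable (f : X ⟶ Y) [IsFinite f] (L : Y.IdealSheafData)

/-- affine opens on which the data are nice -/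
structure Good (U : Y.affineOpens) (n : ℕ) : Prop where
  ex : ∃ t : Γ(Y, U.1), L.ideal U = Ideal.span {t} ∧ t ∈ nonZeroDivisors Γ(Y, U.1) ∧
    (f.app U.1).hom t ∈ nonZeroDivisors Γ(X, f ⁻¹ᵁ U.1) ∧ Function.Injective (f.app U.1).hom ∧
    ∀ b, ∃ a, (f.app U.1).hom a = (f.app U.1).hom t ^ n * b

/-- the centre -/
noncomputable def centre (n : ℕ) : Y.IdealSheafData := (((L.comap f) ^ n).subschemeι ≫ f).ker

theorem centre_ideal (n : ℕ) (U : Y.affineOpens) (t : Γ(Y, U.1)) (ht : L.ideal U = Ideal.span {t}) :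
    (centre f L n).ideal U = (Ideal.span {(f.app U.1).hom t ^ n}).comap (f.app U.1).hom ∧
      ((L.comap f) ^ n).ideal ⟨f ⁻¹ᵁ U.1, U.2.preimage f⟩ = Ideal.span {(f.app U.1).hom t ^ n} := by
  have h1 : ((L.comap f) ^ n).ideal ⟨f ⁻¹ᵁ U.1, U.2.preimage f⟩ = Ideal.span {(f.app U.1).hom t ^ n} := by
    rw [Scheme.IdealSheafData.ideal_pow, Pi.pow_apply, Ideals.comap_ideal f L U ⟨f ⁻¹ᵁ U.1, U.2.preimage f⟩ le_rfl,
      ht, ← Scheme.Hom.app_eq_appLE, Ideal.map_span, Set.image_singleton, Ideal.span_singleton_pow]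
  refine ⟨?_, h1⟩
  rw [centre, ker_subschemeι_comp, h1, ← Scheme.Hom.app_eq_appLE]

theorem compl_inter (U : Y.affineOpens) (t : Γ(Y, U.1)) (ht : L.ideal U = Ideal.span {t}) (y : Y) (hy : y ∈ U.1) :
    y ∈ L.support ↔ y ∉ Y.basicOpen t := by
  have h := Set.ext_iff.1 (L.coe_support_inter U) y
  rw [ht, Scheme.zeroLocus_span, Scheme.zeroLocus_singleton] at h
  exact ⟨fun hs => (h.1 ⟨hs, hy⟩).1, fun hb => (h.2 ⟨hb, hy⟩).1⟩

theorem isIso_app_of_le {C : Y.Opens} (h : IsIso (f ∣_ C)) (D : Y.Opens) (hD : D ≤ C) : IsIso (f.app D) := by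
  obtain ⟨W, rfl⟩ : ∃ W : C.toScheme.Opens, C.ι ''ᵁ W = D :=
    ⟨C.ι ⁻¹ᵁ D, by
      rw [Scheme.Hom.image_preimage_eq_opensRange_inf, Scheme.Opens.opensRange_ι, inf_eq_right.2 hD]⟩
  haveI := h
  have h1 : IsIso ((f ∣_ C).app W) := inferInstance
  rw [morphismRestrict_app] at h1
  exact IsIso.of_isIso_comp_right _ (X.presheaf.map (eqToHom (image_morphismRestrict_preimage f C W)).op)

theorem exists_good [IsReduced X] [IsReduced Y] (hL : BlowUp.IsEffCartierIdeal L) (hiso : IsIso (f ∣_ L.support.compl))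
    (hdense : Dense (f.base ⁻¹' ((L.support : Set Y)ᶜ))) (y : Y) :
    ∃ (U : Y.affineOpens) (n : ℕ), y ∈ U.1 ∧ Good f L U n := by
  obtain ⟨U, hy, t, htn, ht⟩ := hL y
  have hV : IsAffineOpen (f ⁻¹ᵁ U.1) := U.2.preimage f
  let φ := (f.app U.1).hom
  let D := Y.basicOpen t
  have hDle : D ≤ L.support.compl := fun z hz => fun hs =>
    ((compl_inter L U t ht z (Y.basicOpen_le t hz)).1 hs) hz
  haveI := isIso_app_of_le f hiso D hDle
  letI : Algebra Γ(Y, U.1) Γ(Y, D) := (Y.presheaf.map (homOfLE (Y.basicOpen_le t)).op).hom.toAlgebra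
  haveI : IsLocalization.Away t Γ(Y, D) := U.2.isLocalization_basicOpen t
  have hpre : f ⁻¹ᵁ D = X.basicOpen (φ t) := f.preimage_basicOpen t
  have hresinj : ∀ b : Γ(X, f ⁻¹ᵁ U.1), X.presheaf.map (homOfLE (f.preimage_mono (Y.basicOpen_le t))).op b = 0 →
      b = 0 := by
    intro b hb
    rw [← basicOpen_eq_bot_iff]
    by_contra hne
    obtain ⟨z, hz⟩ := (Opens.ne_bot_iff_nonempty _).1 hne
    obtain ⟨w, hwb, hwc⟩ := hdense.inter_open_nonempty _ (X.basicOpen b).2 ⟨z, hz⟩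
    have hwD : w ∈ f ⁻¹ᵁ D := by
      show f w ∈ D
      by_contra hn
      exact hwc ((compl_inter L U t ht (f w) (X.basicOpen_le b hwb)).2 hn)
    have h1 : w ∈ X.basicOpen (X.presheaf.map (homOfLE (f.preimage_mono (Y.basicOpen_le t))).op b) := by
      rw [Scheme.basicOpen_res]; exact ⟨hwD, hwb⟩
    rw [hb, Scheme.basicOpen_zero] at h1
    exact h1
  have hnat : ∀ a : Γ(Y, U.1), (X.presheaf.map (homOfLE (f.preimage_mono (Y.basicOpen_le t))).op).hom (φ a) =
      (f.app D).hom (algebraMap Γ(Y, U.1) Γ(Y, D) a) := fun a =>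
    (ConcreteCategory.congr_hom (f.naturality (homOfLE (Y.basicOpen_le t)).op) a).symm
  have hinj : Function.Injective φ := by
    rw [injective_iff_map_eq_zero]
    intro a ha
    have h1 : algebraMap Γ(Y, U.1) Γ(Y, D) a = 0 :=
      (ConcreteCategory.bijective_of_isIso (f.app D)).1 (by rw [← hnat, ha, map_zero, map_zero])
    obtain ⟨⟨_, k, rfl⟩, hk⟩ := (IsLocalization.map_eq_zero_iff (Submonoid.powers t) _ _).1 h1
    exact (mem_nonZeroDivisors_iff_left.1 (pow_mem htn k)) a hk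
  have hnzd : φ t ∈ nonZeroDivisors Γ(X, f ⁻¹ᵁ U.1) := by
    rw [mem_nonZeroDivisors_iff_right]
    intro b hb
    refine hresinj b ?_
    have hu : IsUnit (X.presheaf.map (homOfLE (f.preimage_mono (Y.basicOpen_le t))).op (φ t)) := by
      rw [hnat]; exact (IsLocalization.Away.algebraMap_isUnit t).map _
    refine hu.mul_left_eq_zero.1 ?_
    rw [← map_mul, hb, map_zero]
  have hk : ∀ b : Γ(X, f ⁻¹ᵁ U.1), ∃ k, ∃ a, φ a = φ t ^ k * b := by
    intro b
    obtain ⟨x, hx⟩ := (ConcreteCategory.bijective_of_isIso (f.app D)).2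
      (X.presheaf.map (homOfLE (f.preimage_mono (Y.basicOpen_le t))).op b)
    obtain ⟨⟨a, _, k, rfl⟩, ha⟩ := IsLocalization.surj (Submonoid.powers t) x
    refine ⟨k, a, sub_eq_zero.1 (hresinj _ ?_)⟩
    rw [map_sub, map_mul, map_pow, hnat, hnat, ← ha, map_mul, map_pow, hx, map_pow, mul_comm, sub_self]
  have hfin : φ.Finite := IsFinite.finite_app f U.1 U.2
  letI := φ.toAlgebra
  obtain ⟨S, hS⟩ := hfin.fg_top
  choose kb hkb using hk
  refine ⟨U, S.sup kb, hy, ⟨t, ht, htn, hnzd, hinj, fun b => ?_⟩⟩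
  have hb : b ∈ Submodule.span Γ(Y, U.1) (S : Set Γ(X, f ⁻¹ᵁ U.1)) := hS ▸ Submodule.mem_top
  induction hb using Submodule.span_induction with
  | mem x hx =>
    obtain ⟨a, ha⟩ := hkb x
    obtain ⟨e, he⟩ := Nat.exists_eq_add_of_le (Finset.le_sup hx (f := kb))
    exact ⟨t ^ e * a, by rw [map_mul, map_pow, ha, he, pow_add]; ring⟩
  | zero => exact ⟨0, by simp⟩
  | add x z _ _ hx hz =>
    obtain ⟨a, ha⟩ := hx
    obtain ⟨a', ha'⟩ := hz
    exact ⟨a + a', by rw [map_add, ha, ha', mul_add]⟩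
  | smul r x _ hx =>
    obtain ⟨a, ha⟩ := hx
    refine ⟨r * a, ?_⟩
    rw [map_mul, ha, Algebra.smul_def]
    show φ r * _ = _
    rw [show algebraMap Γ(Y, U.1) Γ(X, f ⁻¹ᵁ U.1) r = φ r from rfl]
    ring

theorem good_mono {U : Y.affineOpens} {n m : ℕ} (h : Good f L U n) (hnm : n ≤ m) : Good f L U m := by
  obtain ⟨t, ht, h1, h2, h3, h4⟩ := h.ex
  obtain ⟨e, rfl⟩ := Nat.exists_eq_add_of_le hnm
  refine ⟨t, ht, h1, h2, h3, fun b => ?_⟩
  obtain ⟨a, ha⟩ := h4 b
  exact ⟨t ^ e * a, by rw [map_mul, map_pow, ha, pow_add]; ring⟩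

variable {n : ℕ} (hgood : ∀ y : Y, ∃ U : Y.affineOpens, y ∈ U.1 ∧ Good f L U n)
include hgood

theorem isEffCartier_centre : BlowUp.IsEffCartierIdeal ((centre f L n).comap f) := by
  intro x
  obtain ⟨U, hy, hG⟩ := hgood (f x)
  obtain ⟨t, ht, -, hnzd, -, hden⟩ := hG.ex
  refine ⟨⟨f ⁻¹ᵁ U.1, U.2.preimage f⟩, hy, (f.app U.1).hom t ^ n, pow_mem hnzd n, ?_⟩
  rw [Ideals.comap_ideal f _ U ⟨f ⁻¹ᵁ U.1, U.2.preimage f⟩ le_rfl, (centre_ideal f L n U t ht).1,
    ← Scheme.Hom.app_eq_appLE]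
  refine le_antisymm Ideal.map_comap_le ((Ideal.span_singleton_le_iff_mem _).2 ?_)
  obtain ⟨a, ha⟩ := hden 1
  rw [mul_one] at ha
  rw [← ha]
  exact Ideal.mem_map_of_mem _ (by rw [Ideal.mem_comap, ha]; exact Ideal.mem_span_singleton_self _)

theorem exists_chart_lift {T : Scheme.{u}} (g : T ⟶ Y) (hg : BlowUp.IsEffCartierIdeal ((centre f L n).comap g)) (p : T) :
    ∃ W : T.affineOpens, p ∈ W.1 ∧ ∃! h : Spec Γ(T, W.1) ⟶ X, h ≫ f = W.2.fromSpec ≫ g := by
  obtain ⟨U, hy, hG⟩ := hgood (g p)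
  obtain ⟨t, ht, -, -, hinj, hden⟩ := hG.ex
  obtain ⟨W₀, hp, u, -, -, hu⟩ := Ideals.exists_generator hg p
  obtain ⟨r, hle, hpr⟩ := W₀.2.exists_basicOpen_le (V := g ⁻¹ᵁ U.1) ⟨p, hy⟩ hp
  let W : T.affineOpens := T.affineBasicOpen (U := W₀) r
  obtain ⟨hun, huI⟩ := hu W (T.basicOpen_le r)
  have hV : IsAffineOpen (f ⁻¹ᵁ U.1) := U.2.preimage f
  let χ := g.appLE U.1 W.1 hle
  have hI : ((Ideal.span {(f.app U.1).hom t ^ n}).comap (f.app U.1).hom).map χ.hom =
      Ideal.span {(T.presheaf.map (homOfLE (T.basicOpen_le r)).op).hom u} := by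
    rw [← (centre_ideal f L n U t ht).1, ← Ideals.comap_ideal g _ U W hle]
    exact huI
  obtain ⟨ψ, hψ, huniq⟩ := existsUnique_lift (f.app U.1).hom t n hinj hden χ.hom _ hun hI
  have hfac : ∀ θ : Γ(X, f ⁻¹ᵁ U.1) ⟶ Γ(T, W.1),
      (Spec.map θ ≫ hV.fromSpec) ≫ f = Spec.map (f.app U.1 ≫ θ) ≫ U.2.fromSpec := fun θ => by
    rw [Spec.map_comp, Category.assoc, Category.assoc, Scheme.Hom.app_eq_appLE,
      U.2.SpecMap_appLE_fromSpec f hV le_rfl]
  have hgW : W.2.fromSpec ≫ g = Spec.map χ ≫ U.2.fromSpec := (U.2.SpecMap_appLE_fromSpec g W.2 hle).symm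
  refine ⟨W, hpr, Spec.map (CommRingCat.ofHom ψ) ≫ hV.fromSpec, ?_, fun h hh => ?_⟩
  · show _ = _
    rw [hfac, hgW]
    congr 2
    exact CommRingCat.hom_ext hψ
  · have hrange : Set.range h ⊆ Set.range hV.fromSpec := by
      rintro _ ⟨q, rfl⟩
      rw [hV.range_fromSpec]
      show f (h q) ∈ U.1
      rw [← Scheme.Hom.comp_apply, hh, Scheme.Hom.comp_apply]
      exact hle (show W.2.fromSpec q ∈ (W.1 : Set T) by rw [← W.2.range_fromSpec]; exact ⟨q, rfl⟩)
    haveI : IsOpenImmersion hV.fromSpec := inferInstance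
    obtain ⟨θ, hθ⟩ : ∃ θ, Spec.map θ = IsOpenImmersion.lift hV.fromSpec h hrange :=
      ⟨Spec.preimage _, Spec.map_preimage _⟩
    have hh' : Spec.map θ ≫ hV.fromSpec = h := by rw [hθ, IsOpenImmersion.lift_fac]
    have h2 : Spec.map (f.app U.1 ≫ θ) = Spec.map χ := by
      rw [← cancel_mono U.2.fromSpec, ← hfac, hh', hh, hgW]
    have h3 : θ.hom = ψ := huniq θ.hom (congrArg CommRingCat.Hom.hom (Spec.map_injective h2))
    rw [← hh', ← h3]
    rfl

theorem hom_unique {T : Scheme.{u}} (g : T ⟶ Y) (hg : BlowUp.IsEffCartierIdeal ((centre f L n).comap g))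
    (h h' : T ⟶ X) (hh : h ≫ f = g) (hh' : h' ≫ f = g) : h = h' := by
  refine Scheme.hom_ext_of_forall _ _ fun p => ?_
  obtain ⟨W, hp, huniq⟩ := exists_chart_lift f L hgood g hg p
  refine ⟨W.1, hp, ?_⟩
  have e : W.2.fromSpec ≫ h = W.2.fromSpec ≫ h' :=
    huniq.unique (by rw [Category.assoc, hh]) (by rw [Category.assoc, hh'])
  rw [← cancel_epi W.2.isoSpec.inv, ← Category.assoc, ← Category.assoc, IsAffineOpen.isoSpec_inv_ι]
  exact e

theorem isBlowUp_centre : BlowUp.IsBlowUp f (centre f L n) := by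
  refine ⟨isEffCartier_centre f L hgood, fun T g hg => ?_⟩
  choose W hW h hh _ using fun p => exists_chart_lift f L hgood g hg p
  let 𝒰 : T.OpenCover :=
    { I₀ := T
      X := fun p => Spec Γ(T, (W p).1)
      f := fun p => (W p).2.fromSpec
      mem₀ := by
        rw [Scheme.presieve₀_mem_precoverage_iff]
        refine ⟨fun p => ⟨p, ?_⟩, fun p => inferInstance⟩
        rw [(W p).2.range_fromSpec]
        exact hW p }
  have hcompat : ∀ p q : T, pullback.fst (𝒰.f p) (𝒰.f q) ≫ h p = pullback.snd _ _ ≫ h q := by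
    intro p q
    haveI : IsOpenImmersion (𝒰.f q) := inferInstanceAs (IsOpenImmersion (W q).2.fromSpec)
    refine hom_unique f L hgood (pullback.fst (𝒰.f p) (𝒰.f q) ≫ 𝒰.f p ≫ g) ?_ _ _ ?_ ?_
    · rw [← Category.assoc, Scheme.IdealSheafData.comap_comp]
      haveI : IsOpenImmersion (𝒰.f p) := inferInstanceAs (IsOpenImmersion (W p).2.fromSpec)
      exact Ideals.isEffCartier_comap_of_flat (pullback.fst (𝒰.f p) (𝒰.f q) ≫ 𝒰.f p) hg
    · rw [Category.assoc, show h p ≫ f = 𝒰.f p ≫ g from hh p]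
    · rw [Category.assoc, show h q ≫ f = 𝒰.f q ≫ g from hh q, pullback.condition_assoc]
  refine ⟨𝒰.glueMorphisms h hcompat, ?_, fun l hl => hom_unique f L hgood g hg _ _ hl ?_⟩
  all_goals
    refine Scheme.Cover.hom_ext 𝒰 _ _ fun p => ?_
    rw [Scheme.Cover.ι_glueMorphisms_assoc]
    exact hh p

theorem support_centre [IsReduced Y] (hiso : IsIso (f ∣_ L.support.compl)) (hn : 1 ≤ n) :
    (centre f L n).support = L.support := by
  refine SetLike.coe_injective (Set.ext fun y => ?_)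
  obtain ⟨U, hy, hG⟩ := hgood y
  obtain ⟨t, ht, htn, -, -, -⟩ := hG.ex
  have hI := (centre_ideal f L n U t ht).1
  have hI' : y ∈ (centre f L n).support ↔ ∀ a ∈ (centre f L n).ideal U, y ∉ Y.basicOpen a := by
    rw [← SetLike.mem_coe]
    refine ⟨fun hs => (Scheme.mem_zeroLocus_iff Y _ y).1 ((Set.ext_iff.1 ((centre f L n).coe_support_inter U) y).1 ⟨hs, hy⟩).1,
      fun hs => ((Set.ext_iff.1 ((centre f L n).coe_support_inter U) y).2
        ⟨(Scheme.mem_zeroLocus_iff Y _ y).2 hs, hy⟩).1⟩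
  show y ∈ (centre f L n).support ↔ y ∈ L.support
  rw [hI', compl_inter L U t ht y hy, hI]
  refine ⟨fun h hb => h (t ^ n) (by rw [Ideal.mem_comap, map_pow]; exact Ideal.mem_span_singleton_self _)
    (by rwa [Scheme.basicOpen_pow _ _ (show 0 < n by omega)]), fun hb a ha hya => hb ?_⟩
  -- surjectivity
  have hsurj : y ∈ Set.range f := by
    by_contra hnr
    obtain ⟨c, hcle, hyc⟩ := U.2.exists_basicOpen_le (V := ⟨(Set.range f)ᶜ, f.isClosedMap.isClosed_range.isOpen_compl⟩)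
      ⟨y, hnr⟩ hy
    have h0 : Y.basicOpen (c * t) = ⊥ := by
      rw [Scheme.basicOpen_mul, eq_bot_iff]
      rintro z ⟨hz1, hz2⟩
      refine (hcle hz1 ?_).elim
      have hzc : z ∈ L.support.compl := fun hs => (compl_inter L U t ht z (Y.basicOpen_le t hz2)).1 hs hz2
      haveI := hiso
      obtain ⟨w, hw⟩ := (f ∣_ L.support.compl).surjective ⟨z, hzc⟩
      exact ⟨(f ⁻¹ᵁ L.support.compl).ι w, by
        rw [← Scheme.Hom.comp_apply, ← morphismRestrict_ι, Scheme.Hom.comp_apply, hw]; rfl⟩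
    have hc0 : c = 0 := (mem_nonZeroDivisors_iff_right.1 htn) c ((basicOpen_eq_bot_iff _).1 h0)
    rw [hc0, Scheme.basicOpen_zero] at hyc
    exact hyc
  obtain ⟨x, rfl⟩ := hsurj
  obtain ⟨b, hb'⟩ := Ideal.mem_span_singleton.1 (Ideal.mem_comap.1 ha)
  have hx : x ∈ X.basicOpen ((f.app U.1).hom a) := by
    rw [← Scheme.Hom.preimage_basicOpen]; exact hya
  rw [hb', Scheme.basicOpen_mul, Scheme.basicOpen_pow _ _ (show 0 < n by omega),
    ← Scheme.Hom.preimage_basicOpen] at hx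
  exact hx.1

omit hgood in
theorem exists_isBlowUp [CompactSpace Y] [IsReduced X] [IsReduced Y] (hL : BlowUp.IsEffCartierIdeal L)
    (hiso : IsIso (f ∣_ L.support.compl)) (hdense : Dense (f.base ⁻¹' ((L.support : Set Y)ᶜ))) :
    ∃ I : Y.IdealSheafData, I.support = L.support ∧ BlowUp.IsBlowUp f I := by
  classical
  choose U m hy hG using exists_good f L hL hiso hdense
  obtain ⟨s, hs⟩ := isCompact_univ.elim_finite_subcover (fun y => ((U y).1 : Set Y)) (fun y => (U y).1.2)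
    (fun y _ => Set.mem_iUnion.2 ⟨y, hy y⟩)
  have hgood : ∀ y : Y, ∃ V : Y.affineOpens, y ∈ V.1 ∧ Good f L V (s.sup m + 1) := fun y => by
    obtain ⟨z, hz, hyz⟩ := Set.mem_iUnion₂.1 (hs (Set.mem_univ y))
    exact ⟨U z, hyz, good_mono f L (hG z) ((Finset.le_sup hz).trans (Nat.le_succ _))⟩
  exact ⟨centre f L (s.sup m + 1), support_centre f L hgood hiso (Nat.succ_pos _),
    isBlowUp_centre f L hgood⟩

end Groth.L07.BlowLib
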