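import Groth.Agent.L13.BlowUp.ReesChart
import Groth.Agent.L03.ProjDescent
import Mathlib.RingTheory.Flat.EquationalCriterion
import Mathlib.RingTheory.TensorProduct.Basic

/-! Normal flatness and the charts of a blow-up. -/

set_option autoImplicit false
set_option linter.style.haveILetI false
set_option maxSynthPendingDepth 3
set_option backward.isDefEq.respectTransparency false
set_option backward.isDefEq.respectTransparency.types false
set_option synthInstance.maxHeartbeats 400000
set_option maxHeartbeats 1000000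

universe u

open TensorProduct

namespace Groth.L07.BlowLib

open Groth.L13.BU

/-- a module exhausted by flat modules is flat -/
theorem flat_of_exhaust {R : Type u} [CommRing R] {M : Type u} [AddCommGroup M] [Module R M]
    (G : ℕ → Type u) [∀ n, AddCommGroup (G n)] [∀ n, Module R (G n)] [∀ n, Module.Flat R (G n)]
    (ψ : ∀ n, G n →ₗ[R] M) (T : ∀ n m, n ≤ m → G n →ₗ[R] G m)
    (hT : ∀ n m h y, ψ m (T n m h y) = ψ n y) (hsurj : ∀ x, ∃ n y, ψ n y = x)
    (hzero : ∀ n y, ψ n y = 0 → ∃ m, ∃ h : n ≤ m, T n m h y = 0) : Module.Flat R M := by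
  refine Module.Flat.of_forall_isTrivialRelation fun {l f x} hfx => ?_
  choose n y hy using fun i => hsurj (x i)
  let N := Finset.univ.sup n
  let z : Fin l → G N := fun i => T (n i) N (Finset.le_sup (Finset.mem_univ i)) (y i)
  have hz : ∀ i, ψ N (z i) = x i := fun i => (hT _ _ _ _).trans (hy i)
  obtain ⟨m, h, hm⟩ := hzero N (∑ i, f i • z i) (by simp only [map_sum, map_smul, hz, hfx])
  simp only [map_sum, map_smul] at hm
  obtain ⟨k, c, w, hw, hc⟩ := Module.Flat.isTrivialRelation_of_sum_smul_eq_zero hm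
  refine ⟨k, c, fun j => ψ m (w j), fun i => ?_, hc⟩
  rw [← hz i, ← hT N m h (z i)]
  refine (congrArg (ψ m) (hw i)).trans ?_
  simp only [map_sum, map_smul]

variable {R A : Type u} [CommRing R] [CommRing A] [Algebra R A] (I : Ideal A)

variable (R) in
/-- powers of an ideal as modules over the base -/
abbrev powSub (n : ℕ) : Submodule R A := (I ^ n).restrictScalars R

variable (R) in
/-- the graded pieces as modules over the base -/
abbrev grPiece (n : ℕ) : Type u := ↥(powSub R I n) ⧸ (powSub R I (n + 1)).submoduleOf (powSub R I n)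

theorem flat_quot_pow (hflat : ∀ n : ℕ, Module.Flat R (A ⧸ I ^ (n + 1))) (n : ℕ) :
    Module.Flat R (A ⧸ I ^ n) := by
  rcases n with _ | n
  · haveI : Subsingleton (A ⧸ I ^ 0) := Ideal.Quotient.subsingleton_iff.2 (by simp)
    infer_instance
  · exact hflat n

theorem flat_powSub [Module.Flat R A] (hflat : ∀ n : ℕ, Module.Flat R (A ⧸ I ^ (n + 1))) (n : ℕ) :
    Module.Flat R (powSub R I n) := by
  haveI := flat_quot_pow I hflat n
  have h := Groth.L03.ProjDescent.flat_ker (Ideal.Quotient.mkₐ R (I ^ n)).toLinearMap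
    Ideal.Quotient.mk_surjective
  have he : LinearMap.ker (Ideal.Quotient.mkₐ R (I ^ n)).toLinearMap = powSub R I n := by
    ext x; exact Ideal.Quotient.eq_zero_iff_mem
  rwa [he] at h

theorem flat_grPiece (hflat : ∀ n : ℕ, Module.Flat R (A ⧸ I ^ (n + 1))) (n : ℕ) :
    Module.Flat R (grPiece R I n) := by
  haveI := flat_quot_pow I hflat n
  haveI := flat_quot_pow I hflat (n + 1)
  let p : (A ⧸ I ^ (n + 1)) →ₗ[R] (A ⧸ I ^ n) :=
    (Ideal.Quotient.factorₐ R (Ideal.pow_le_pow_right n.le_succ : I ^ (n + 1) ≤ I ^ n)).toLinearMap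
  haveI := Groth.L03.ProjDescent.flat_ker p (Ideal.Quotient.factor_surjective (Ideal.pow_le_pow_right n.le_succ : I ^ (n + 1) ≤ I ^ n))
  let q : ↥(powSub R I n) →ₗ[R] LinearMap.ker p :=
    ((Ideal.Quotient.mkₐ R (I ^ (n + 1))).toLinearMap ∘ₗ (powSub R I n).subtype).codRestrict _
      fun x => (Ideal.Quotient.eq_zero_iff_mem.2 x.2 : Ideal.Quotient.mk (I ^ n) x.1 = 0)
  have hq : Function.Surjective q := by
    rintro ⟨z, hz⟩
    obtain ⟨x, rfl⟩ := Ideal.Quotient.mk_surjective z
    exact ⟨⟨x, (Ideal.Quotient.eq_zero_iff_mem (I := I ^ n)).1 hz⟩, rfl⟩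
  have hk : LinearMap.ker q = (powSub R I (n + 1)).submoduleOf (powSub R I n) := by
    ext x
    rw [LinearMap.mem_ker, ← Subtype.coe_inj]
    exact Ideal.Quotient.eq_zero_iff_mem
  exact Module.Flat.of_linearEquiv
    ((Submodule.quotEquivOfEq _ _ hk.symm).trans (q.quotKerEquivOfSurjective hq))

variable (a : A) (ha : a ∈ I ^ 1)

variable (R) in
/-- multiplication by a power of `a` -/
noncomputable def shift (I : Ideal A) (a : A) (ha : a ∈ I ^ 1) (n m : ℕ) (h : n ≤ m) :
    ↥(powSub R I n) →ₗ[R] ↥(powSub R I m) :=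
  ((LinearMap.mulLeft R (a ^ (m - n))) ∘ₗ (powSub R I n).subtype).codRestrict _ fun x => by
    show a ^ (m - n) * x.1 ∈ I ^ m
    rw [show I ^ m = I ^ (m - n) * I ^ n by rw [← pow_add, Nat.sub_add_cancel h]]
    exact Ideal.mul_mem_mul (Ideal.pow_mem_pow (by simpa using ha) _) x.2

/-- the structure of the chart over the base -/
noncomputable abbrev chartAlg : Algebra R (Chart I a ha) :=
  ((chartHom I a ha).comp (algebraMap R A)).toAlgebra

theorem frac_shift (n m : ℕ) (h : n ≤ m) (y : ↥(powSub R I n)) :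
    frac I a ha m (shift R I a ha n m h y).1 (shift R I a ha n m h y).2 = frac I a ha n y.1 y.2 := by
  refine frac_eq_frac I a ha _ _ ?_
  show a ^ n * (a ^ (m - n) * y.1) = a ^ m * y.1
  rw [← mul_assoc, ← pow_add, Nat.add_sub_cancel' h]

theorem exists_fracMap : letI := chartAlg (R := R) I a ha
    ∀ n, ∃ ψ : ↥(powSub R I n) →ₗ[R] Chart I a ha, ∀ y, ψ y = frac I a ha n y.1 y.2 := by
  letI := chartAlg (R := R) I a ha
  intro n
  have key : ∀ z : Chart I a ha, ∀ w, chartHom I a ha a ^ n * z = w →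
      ∀ z', chartHom I a ha a ^ n * z' = w → z = z' := fun z w hz z' hz' =>
    (mul_cancel_left_mem_nonZeroDivisors (pow_mem (chartHom_nonZeroDivisor I a ha) n)).1 (hz.trans hz'.symm)
  refine ⟨{ toFun := fun y => frac I a ha n y.1 y.2, map_add' := fun y y' => ?_, map_smul' := fun r y => ?_ },
    fun y => rfl⟩
  · refine key _ _ (pow_mul_frac I a ha n _ _) _ ?_
    rw [mul_add, pow_mul_frac, pow_mul_frac]
    exact (map_add _ _ _).symm
  · refine key _ _ (pow_mul_frac I a ha n _ _) _ ?_
    rw [RingHom.id_apply, Algebra.smul_def, mul_left_comm, pow_mul_frac]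
    show chartHom I a ha (algebraMap R A r) * _ = chartHom I a ha (r • y.1)
    rw [← map_mul, Algebra.smul_def]

/-- the chart is flat over the base -/
theorem flat_chart [Module.Flat R A] (hflat : ∀ n : ℕ, Module.Flat R (A ⧸ I ^ (n + 1))) :
    letI := chartAlg (R := R) I a ha
    Module.Flat R (Chart I a ha) := by
  letI := chartAlg (R := R) I a ha
  haveI := fun n => flat_powSub (R := R) I hflat n
  choose ψ hψ using exists_fracMap (R := R) I a ha
  refine flat_of_exhaust (fun n => ↥(powSub R I n)) ψ (shift R I a ha) (fun n m h y => ?_) (fun x => ?_)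
    (fun n y hy => ?_)
  · rw [hψ, hψ, frac_shift]
  · obtain ⟨n, c, hc, rfl⟩ := frac_surjective I a ha x
    exact ⟨n, ⟨c, hc⟩, hψ n _⟩
  · rw [hψ] at hy
    obtain ⟨k, hk⟩ := of_frac_eq_zero I a ha _ hy
    refine ⟨n + k, Nat.le_add_right _ _, Subtype.ext ?_⟩
    show a ^ (n + k - n) * y.1 = 0
    rwa [Nat.add_sub_cancel_left]

/-- the exceptional divisor of the chart is flat over the base -/
theorem flat_exceptional (hflat : ∀ n : ℕ, Module.Flat R (A ⧸ I ^ (n + 1))) :
    letI := chartAlg (R := R) I a ha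
    Module.Flat R (Chart I a ha ⧸ Ideal.span {chartHom I a ha a}) := by
  letI := chartAlg (R := R) I a ha
  haveI := fun n => flat_grPiece (R := R) I hflat n
  choose ψ hψ using exists_fracMap (R := R) I a ha
  let π := (Ideal.Quotient.mkₐ R (Ideal.span {chartHom I a ha a})).toLinearMap
  have hker : ∀ n, (powSub R I (n + 1)).submoduleOf (powSub R I n) ≤ LinearMap.ker (π ∘ₗ ψ n) := by
    intro n y hy
    rw [LinearMap.mem_ker]
    show Ideal.Quotient.mk _ (ψ n y) = 0
    rw [Ideal.Quotient.eq_zero_iff_mem, hψ, Ideal.mem_span_singleton]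
    refine Dvd.intro (frac I a ha (n + 1) y.1 hy) ?_
    rw [chartHom_mul_frac]
    exact frac_eq_frac I a ha _ _ (by ring)
  have hsh : ∀ n m (h : n ≤ m), (powSub R I (n + 1)).submoduleOf (powSub R I n) ≤
      ((powSub R I (m + 1)).submoduleOf (powSub R I m)).comap (shift R I a ha n m h) := by
    intro n m h y hy
    show a ^ (m - n) * y.1 ∈ I ^ (m + 1)
    rw [show m + 1 = (m - n) + (n + 1) by omega, pow_add I]
    exact Ideal.mul_mem_mul (Ideal.pow_mem_pow (by simpa using ha) _) hy
  refine flat_of_exhaust (grPiece R I) (fun n => Submodule.liftQ _ (π ∘ₗ ψ n) (hker n))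
    (fun n m h => Submodule.mapQ _ _ (shift R I a ha n m h) (hsh n m h)) (fun n m h y => ?_) (fun x => ?_)
    (fun n y hy => ?_)
  · induction y using Submodule.Quotient.induction_on with
    | _ y =>
      simp only [Submodule.mapQ_apply, Submodule.liftQ_apply, LinearMap.comp_apply, hψ, frac_shift]
  · obtain ⟨z, rfl⟩ := Ideal.Quotient.mk_surjective x
    obtain ⟨n, c, hc, rfl⟩ := frac_surjective I a ha z
    refine ⟨n, Submodule.Quotient.mk ⟨c, hc⟩, ?_⟩
    show π (ψ n ⟨c, hc⟩) = _
    rw [hψ]; rfl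
  · induction y using Submodule.Quotient.induction_on with
    | _ y =>
      change Ideal.Quotient.mk _ (ψ n y) = 0 at hy
      rw [Ideal.Quotient.eq_zero_iff_mem, hψ, Ideal.mem_span_singleton] at hy
      obtain ⟨z, hz⟩ := hy
      obtain ⟨m, d, hd, rfl⟩ := frac_surjective I a ha z
      rw [chartHom_mul_frac] at hz
      have h0 : frac I a ha (n + m) (a ^ m * y.1 - a ^ n * (a * d))
          (sub_mem (by rw [add_comm n m, pow_add]; exact Ideal.mul_mem_mul (Ideal.pow_mem_pow (by simpa using ha) _) y.2)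
            (by rw [pow_add]; exact Ideal.mul_mem_mul (Ideal.pow_mem_pow (by simpa using ha) _) (Ideal.mul_mem_left _ _ hd))) = 0 := by
        refine (mul_cancel_left_mem_nonZeroDivisors (pow_mem (chartHom_nonZeroDivisor I a ha) (n + m))).1 ?_
        rw [mul_zero, pow_mul_frac, map_sub, map_mul, map_mul, map_pow, map_pow,
          ← pow_mul_frac I a ha n y.1 y.2, ← pow_mul_frac I a ha m (a * d) (Ideal.mul_mem_left _ _ hd), hz]
        ring
      obtain ⟨k, hk⟩ := of_frac_eq_zero I a ha _ h0
      refine ⟨n + (k + m), Nat.le_add_right _ _, ?_⟩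
      rw [Submodule.mapQ_apply, Submodule.Quotient.mk_eq_zero]
      show a ^ (n + (k + m) - n) * y.1 ∈ I ^ (n + (k + m) + 1)
      rw [Nat.add_sub_cancel_left, show a ^ (k + m) * y.1 = a ^ k * (a ^ n * (a * d)) by
        rw [pow_add, mul_assoc, ← sub_eq_zero, ← mul_sub]; exact hk]
      rw [show a ^ k * (a ^ n * (a * d)) = a ^ (k + n + 1) * d by ring,
        show n + (k + m) + 1 = (k + n + 1) + m by ring, pow_add I]
      exact Ideal.mul_mem_mul (Ideal.pow_mem_pow (by simpa using ha) _) hd

/-- the exceptional equation stays a nonzerodivisor after any base change -/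
theorem nzd_tensor (hflat : ∀ n : ℕ, Module.Flat R (A ⧸ I ^ (n + 1))) (R' : Type u) [CommRing R']
    [Algebra R R'] :
    letI := chartAlg (R := R) I a ha
    (chartHom I a ha a) ⊗ₜ[R] (1 : R') ∈ nonZeroDivisors (Chart I a ha ⊗[R] R') := by
  letI := chartAlg (R := R) I a ha
  haveI := flat_exceptional (R := R) I a ha hflat
  let f : Chart I a ha →ₗ[R] Chart I a ha := LinearMap.mulLeft R (chartHom I a ha a)
  let π := (Ideal.Quotient.mkₐ R (Ideal.span {chartHom I a ha a})).toLinearMap
  have hinj : Function.Injective f := fun x y h =>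
    (mul_cancel_left_mem_nonZeroDivisors (chartHom_nonZeroDivisor I a ha)).1 h
  have hex : Function.Exact f π := by
    intro x
    show Ideal.Quotient.mk _ x = 0 ↔ x ∈ Set.range f
    rw [Ideal.Quotient.eq_zero_iff_mem, Ideal.mem_span_singleton]
    exact ⟨fun ⟨c, hc⟩ => ⟨c, hc.symm⟩, fun ⟨c, hc⟩ => ⟨c, hc.symm⟩⟩
  have h1 : Function.Injective (f.lTensor R') :=
    LinearMap.lTensor_injective_of_exact_of_flat π Ideal.Quotient.mk_surjective f hinj hex R'
  have h2 : Function.Injective (f.rTensor R') := (LinearMap.lTensor_inj_iff_rTensor_inj R' f).1 h1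
  have h3 : ∀ t, f.rTensor R' t = (chartHom I a ha a) ⊗ₜ[R] (1 : R') * t := by
    intro t
    induction t using TensorProduct.induction_on with
    | zero => simp
    | tmul x y => simp [f]
    | add x y hx hy => rw [map_add, hx, hy, mul_add]
  rw [mem_nonZeroDivisors_iff_right]
  intro t ht
  refine h2 ?_
  rw [map_zero, h3, mul_comm, ht]

end Groth.L07.BlowLib
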