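import Groth.Agent.L07.BlowLib.FlatAlg
import Groth.Agent.L13.BlowUp.Exists
import Groth.Agent.L11.BlowSmooth.Sch
import Mathlib.AlgebraicGeometry.Morphisms.Flat

/-! Blow-ups along normally flat centres commute with base change. -/

set_option autoImplicit false
set_option linter.style.haveILetI false
set_option maxHeartbeats 1600000
set_option synthInstance.maxHeartbeats 400000
set_option maxSynthPendingDepth 3
set_option backward.isDefEq.respectTransparency false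
set_option backward.isDefEq.respectTransparency.types false

universe u

open CategoryTheory CategoryTheory.Limits AlgebraicGeometry TopologicalSpace Opposite
open TensorProduct

namespace Groth.L07.BlowLib

open Groth.L13.BU Groth.L22

variable {X X' S : Scheme.{u}}

theorem flat_of_openImm_charts {Y : Scheme.{u}} (f : Y ⟶ S)
    (h : ∀ y : Y, ∃ (U : Scheme.{u}) (q : U ⟶ Y) (_ : IsOpenImmersion q),
      y ∈ Set.range q ∧ Flat (q ≫ f)) : Flat f := by
  choose U q hq hy hf using h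
  let 𝒰 : Y.OpenCover := Scheme.Cover.mkOfCovers Y U q (fun y => ⟨y, hy y⟩) (fun y => hq y)
  exact IsZariskiLocalAtSource.of_openCover (P := @Flat) 𝒰 fun y => hf y

theorem flat_cancel_openImm {U V : Scheme.{u}} (f : U ⟶ V) (j : V ⟶ S) [IsOpenImmersion j] [Flat (f ≫ j)] :
    Flat f := by
  have h := IsOpenImmersion.isPullback f (𝟙 U) j (f ≫ j) (Category.id_comp _) ?_
  · exact MorphismProperty.of_isPullback (P := @Flat) h.flip inferInstance
  · ext x
    exact ⟨fun _ => ⟨x, rfl⟩, fun _ => ⟨f x, rfl⟩⟩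

theorem flat_of_SpecMap {R C : Type u} [CommRing R] [CommRing C] (φ : R →+* C)
    [Flat (Spec.map (CommRingCat.ofHom φ))] : φ.Flat :=
  (HasRingHomProperty.Spec_iff (P := @Flat) (φ := CommRingCat.ofHom φ)).1 ‹_›

theorem idealOf_map {A B : Type u} [CommRing A] [CommRing B] (φ : A →+* B) (I : Ideal A) :
    (idealOf I).comap (Spec.map (CommRingCat.ofHom φ)) = idealOf (I.map φ) :=
  Scheme.IdealSheafData.ext_of_isAffine ((comap_SpecMap φ I).trans (idealOf_top _).symm)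

theorem isEffCartier_span {B : Type u} [CommRing B] {x : B} (hx : x ∈ nonZeroDivisors B) :
    BlowUp.IsEffCartierIdeal (idealOf (Ideal.span {x})) := by
  intro z
  refine ⟨⟨⊤, isAffineOpen_top _⟩, trivial, (Scheme.ΓSpecIso (CommRingCat.of B)).inv x, ?_, ?_⟩
  · rw [mem_nonZeroDivisors_iff_right]
    intro s hs
    let ee := (Scheme.ΓSpecIso (CommRingCat.of B)).commRingCatIsoToRingEquiv
    refine ee.map_eq_zero_iff.1 ((mem_nonZeroDivisors_iff_right.1 hx) _ ?_)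
    have h1 := congrArg ee hs
    rw [map_mul, map_zero] at h1
    rwa [show ee ((Scheme.ΓSpecIso (CommRingCat.of B)).inv x) = x from ee.apply_symm_apply _] at h1
  · rw [idealOf_top, Ideal.map_span, Set.image_singleton]

theorem isEffCartier_span_comap {B C : Type u} [CommRing B] [CommRing C] (φ : C →+* B) {c : C}
    (hx : φ c ∈ nonZeroDivisors B) :
    BlowUp.IsEffCartierIdeal ((idealOf (Ideal.span {c})).comap (Spec.map (CommRingCat.ofHom φ))) := by
  rw [idealOf_map, Ideal.map_span, Set.image_singleton]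
  exact isEffCartier_span hx

section Base

variable (g : X ⟶ S) {𝓘 : X.IdealSheafData} {U : X.Opens} (hU : IsAffineOpen U) {V : S.Opens}
  (hV : IsAffineOpen V) (e : U ≤ g ⁻¹ᵁ V)

/-- the algebra of an affine chart over an affine chart of the base -/
noncomputable abbrev baseAlg : Algebra Γ(S, V) Γ(X, U) := (g.appLE V U e).hom.toAlgebra

theorem fromSpec_comp :
    hU.fromSpec ≫ g = Spec.map (CommRingCat.ofHom (g.appLE V U e).hom) ≫ hV.fromSpec :=
  (hV.SpecMap_appLE_fromSpec g hU e).symm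

include hU hV

theorem flat_quotient (J : X.IdealSheafData) [Flat (J.subschemeι ≫ g)] :
    letI := baseAlg g e
    Module.Flat Γ(S, V) (Γ(X, U) ⧸ J.ideal ⟨U, hU⟩) := by
  letI := baseAlg g e
  haveI : IsOpenImmersion (hU.fromSpec : Spec (CommRingCat.of Γ(X, U)) ⟶ X) := inferInstanceAs (IsOpenImmersion hU.fromSpec)
  obtain ⟨q, hq, hqι, -⟩ := Groth.L11.BlowSmooth.exists_closed_chart J.subschemeι
    (hU.fromSpec : Spec (CommRingCat.of Γ(X, U)) ⟶ X) (J.ideal ⟨U, hU⟩)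
    (by rw [Scheme.IdealSheafData.ker_subschemeι]; exact Groth.L11.BlowSmooth.comap_fromSpec J ⟨U, hU⟩)
  haveI := hq
  let φ := (Ideal.Quotient.mk (J.ideal ⟨U, hU⟩)).comp (g.appLE V U e).hom
  have hfac : q ≫ J.subschemeι ≫ g = Spec.map (CommRingCat.ofHom φ) ≫ hV.fromSpec := by
    rw [reassoc_of% hqι]
    show Spec.map _ ≫ hU.fromSpec ≫ g = _
    rw [fromSpec_comp g hU hV e, CommRingCat.ofHom_comp, Spec.map_comp, Category.assoc]
  haveI : Flat (Spec.map (CommRingCat.ofHom φ) ≫ hV.fromSpec) := by rw [← hfac]; infer_instance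
  haveI := flat_cancel_openImm (Spec.map (CommRingCat.ofHom φ)) hV.fromSpec
  have h := flat_of_SpecMap φ
  rw [show φ = algebraMap Γ(S, V) (Γ(X, U) ⧸ J.ideal ⟨U, hU⟩) from rfl, RingHom.flat_algebraMap_iff] at h
  exact h

theorem flat_quotient_pow (hflat : ∀ n : ℕ, Flat ((𝓘 ^ (n + 1)).subschemeι ≫ g)) :
    letI := baseAlg g e
    ∀ n : ℕ, Module.Flat Γ(S, V) (Γ(X, U) ⧸ 𝓘.ideal ⟨U, hU⟩ ^ (n + 1)) := by
  letI := baseAlg g e
  intro n
  haveI := hflat n
  have h := flat_quotient g hU hV e (𝓘 ^ (n + 1))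
  rwa [Scheme.IdealSheafData.ideal_pow, Pi.pow_apply] at h

end Base

theorem exists_chart {b : X' ⟶ X} {𝓘 : X.IdealSheafData} (hb : BlowUp.IsBlowUp b 𝓘) {U : X.Opens}
    (hU : IsAffineOpen U) (x' : X') (hx : b x' ∈ U) :
    ∃ (a : Γ(X, U)) (ha : a ∈ 𝓘.ideal ⟨U, hU⟩ ^ 1)
      (j : Spec (CommRingCat.of (Chart (𝓘.ideal ⟨U, hU⟩) a ha)) ⟶ X') (_ : IsOpenImmersion j),
      x' ∈ Set.range j ∧
        j ≫ b = Spec.map (CommRingCat.ofHom (chartHom (𝓘.ideal ⟨U, hU⟩) a ha)) ≫ hU.fromSpec := by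
  let u : Spec (CommRingCat.of Γ(X, U)) ⟶ X := hU.fromSpec
  haveI : IsOpenImmersion u := inferInstanceAs (IsOpenImmersion hU.fromSpec)
  let J : Ideal Γ(X, U) := 𝓘.ideal ⟨U, hU⟩
  have hbX : BlowUp.IsBlowUp (reesToSpec J) (𝓘.comap u) :=
    (Groth.L11.BlowSmooth.comap_fromSpec 𝓘 ⟨U, hU⟩).symm ▸ isBlowUp_rees J
  obtain ⟨k, hk, -⟩ := hb.2 _ (reesToSpec J ≫ u) (by rw [Scheme.IdealSheafData.comap_comp]; exact hbX.1)
  have hpb := isPullback_of_blowUps u hb hbX k hk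
  haveI : IsOpenImmersion k := MorphismProperty.of_isPullback hpb inferInstance
  obtain ⟨y, hy⟩ : b x' ∈ Set.range u := by show b x' ∈ Set.range hU.fromSpec; rw [hU.range_fromSpec]; exact hx
  obtain ⟨p, -, hp⟩ := Groth.L11.BlowSmooth.exists_preimage hpb y x' hy
  obtain ⟨⟨a, ha⟩, hpa⟩ := Opens.mem_iSup.1 ((iSup_chart J).ge (Set.mem_univ p))
  obtain ⟨q, hq⟩ : p ∈ (chartι J a ha).opensRange := by rw [Proj.opensRange_awayι]; exact hpa
  refine ⟨a, ha, chartι J a ha ≫ k, inferInstance, ⟨q, ?_⟩, ?_⟩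
  · rw [Scheme.Hom.comp_apply, hq, hp]
  · rw [Category.assoc, hk, ← Category.assoc, chartι_reesToSpec]

theorem comap_chart {b : X' ⟶ X} {𝓘 : X.IdealSheafData} {U : X.Opens} {hU : IsAffineOpen U} {a : Γ(X, U)}
    {ha : a ∈ 𝓘.ideal ⟨U, hU⟩ ^ 1} {j : Spec (CommRingCat.of (Chart (𝓘.ideal ⟨U, hU⟩) a ha)) ⟶ X'}
    (hj : j ≫ b = Spec.map (CommRingCat.ofHom (chartHom (𝓘.ideal ⟨U, hU⟩) a ha)) ≫ hU.fromSpec) :
    (𝓘.comap b).comap j = idealOf (Ideal.span {chartHom (𝓘.ideal ⟨U, hU⟩) a ha a}) := by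
  rw [← Scheme.IdealSheafData.comap_comp, hj, Scheme.IdealSheafData.comap_comp,
    show 𝓘.comap hU.fromSpec = idealOf (𝓘.ideal ⟨U, hU⟩) from Groth.L11.BlowSmooth.comap_fromSpec 𝓘 ⟨U, hU⟩]
  exact (idealOf_map _ _).trans (congrArg idealOf (map_ideal (𝓘.ideal ⟨U, hU⟩) a ha))

theorem exists_opens (g : X ⟶ S) (x : X) :
    ∃ (U : X.Opens) (_ : IsAffineOpen U) (V : S.Opens) (_ : IsAffineOpen V), x ∈ U ∧ U ≤ g ⁻¹ᵁ V := by
  obtain ⟨_, ⟨V, hV, rfl⟩, hxV, -⟩ :=
    S.isBasis_affineOpens.exists_subset_of_mem_open (Set.mem_univ (g x)) isOpen_univ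
  obtain ⟨_, ⟨U, hU, rfl⟩, hxU, hUV⟩ :=
    X.isBasis_affineOpens.exists_subset_of_mem_open (show x ∈ g ⁻¹ᵁ V from hxV) (g ⁻¹ᵁ V).2
  exact ⟨U, hU, V, hV, hxU, hUV⟩

variable (g : X ⟶ S) (𝓘 : X.IdealSheafData) {b : X' ⟶ X}

theorem flat_exceptional_scheme (hflat : ∀ n : ℕ, Flat ((𝓘 ^ (n + 1)).subschemeι ≫ g))
    (hb : BlowUp.IsBlowUp b 𝓘) : Flat ((BlowUp.exceptional b 𝓘).subschemeι ≫ b ≫ g) := by
  refine flat_of_openImm_charts _ fun z => ?_
  obtain ⟨U, hU, V, hV, hxU, e⟩ := exists_opens g (b ((BlowUp.exceptional b 𝓘).subschemeι z))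
  obtain ⟨a, ha, j, hjo, hxj, hj⟩ := exists_chart hb hU _ hxU
  haveI := hjo
  letI := baseAlg g e
  letI := chartAlg (R := Γ(S, V)) (𝓘.ideal ⟨U, hU⟩) a ha
  haveI := flat_exceptional (R := Γ(S, V)) (𝓘.ideal ⟨U, hU⟩) a ha (flat_quotient_pow g hU hV e hflat)
  obtain ⟨q, hq, hqι, hqr⟩ := Groth.L11.BlowSmooth.exists_closed_chart
    (BlowUp.exceptional b 𝓘).subschemeι j (Ideal.span {chartHom (𝓘.ideal ⟨U, hU⟩) a ha a})
    (by rw [Scheme.IdealSheafData.ker_subschemeι]; exact comap_chart hj)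
  refine ⟨_, q, hq, hqr z hxj, ?_⟩
  let ψ := (Ideal.Quotient.mk (Ideal.span {chartHom (𝓘.ideal ⟨U, hU⟩) a ha a})).comp
    ((chartHom (𝓘.ideal ⟨U, hU⟩) a ha).comp (g.appLE V U e).hom)
  haveI : Flat (Spec.map (CommRingCat.ofHom ψ)) := by
    refine (HasRingHomProperty.Spec_iff (P := @Flat) (φ := CommRingCat.ofHom ψ)).2 ?_
    rw [show ψ = algebraMap Γ(S, V) (Chart (𝓘.ideal ⟨U, hU⟩) a ha ⧸
      Ideal.span {chartHom (𝓘.ideal ⟨U, hU⟩) a ha a}) from rfl]
    exact RingHom.flat_algebraMap_iff.2 inferInstance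
  rw [reassoc_of% hqι, reassoc_of% hj, fromSpec_comp g hU hV e, ← Spec.map_comp_assoc, ← Spec.map_comp_assoc]
  exact MorphismProperty.comp_mem @Flat (Spec.map (CommRingCat.ofHom ψ)) hV.fromSpec inferInstance inferInstance

theorem flat_blowUp [Flat g] (hflat : ∀ n : ℕ, Flat ((𝓘 ^ (n + 1)).subschemeι ≫ g))
    (hb : BlowUp.IsBlowUp b 𝓘) : Flat (b ≫ g) := by
  refine flat_of_openImm_charts _ fun z => ?_
  obtain ⟨U, hU, V, hV, hxU, e⟩ := exists_opens g (b z)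
  obtain ⟨a, ha, j, hjo, hxj, hj⟩ := exists_chart hb hU _ hxU
  letI := baseAlg g e
  letI := chartAlg (R := Γ(S, V)) (𝓘.ideal ⟨U, hU⟩) a ha
  haveI : Module.Flat Γ(S, V) Γ(X, U) := RingHom.flat_algebraMap_iff.1 (g.flat_appLE hV hU e)
  haveI := flat_chart (R := Γ(S, V)) (𝓘.ideal ⟨U, hU⟩) a ha (flat_quotient_pow g hU hV e hflat)
  refine ⟨_, j, hjo, hxj, ?_⟩
  let ψ := (chartHom (𝓘.ideal ⟨U, hU⟩) a ha).comp (g.appLE V U e).hom
  haveI : Flat (Spec.map (CommRingCat.ofHom ψ)) := by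
    refine (HasRingHomProperty.Spec_iff (P := @Flat) (φ := CommRingCat.ofHom ψ)).2 ?_
    rw [show ψ = algebraMap Γ(S, V) (Chart (𝓘.ideal ⟨U, hU⟩) a ha) from rfl]
    exact RingHom.flat_algebraMap_iff.2 inferInstance
  rw [reassoc_of% hj, fromSpec_comp g hU hV e, ← Spec.map_comp_assoc]
  exact MorphismProperty.comp_mem @Flat (Spec.map (CommRingCat.ofHom ψ)) hV.fromSpec inferInstance inferInstance

theorem isBlowUp_baseChange (hflat : ∀ n : ℕ, Flat ((𝓘 ^ (n + 1)).subschemeι ≫ g))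
    (hb : BlowUp.IsBlowUp b 𝓘) {T XT XT' : Scheme.{u}} {t : T ⟶ S} {pX : XT ⟶ X} {fT : XT ⟶ T}
    (hX : IsPullback pX fT g t) {pX' : XT' ⟶ X'} {bT : XT' ⟶ XT} (hX' : IsPullback pX' bT b pX) :
    BlowUp.IsBlowUp bT (𝓘.comap pX) := by
  refine ⟨isEffCartier_of_cover fun p => ?_, fun Y h hY => ?_⟩
  · have hP : IsPullback pX' (bT ≫ fT) (b ≫ g) t := hX'.paste_vert hX
    obtain ⟨_, ⟨V, hV, rfl⟩, hxV, -⟩ :=
      S.isBasis_affineOpens.exists_subset_of_mem_open (Set.mem_univ (g (b (pX' p)))) isOpen_univ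
    obtain ⟨_, ⟨U, hU, rfl⟩, hxU, e⟩ :=
      X.isBasis_affineOpens.exists_subset_of_mem_open (show b (pX' p) ∈ g ⁻¹ᵁ V from hxV) (g ⁻¹ᵁ V).2
    have hsV : (bT ≫ fT) p ∈ t ⁻¹ᵁ V := by
      show t ((bT ≫ fT) p) ∈ V
      rw [← Scheme.Hom.comp_apply, ← hP.w, Scheme.Hom.comp_apply, Scheme.Hom.comp_apply]
      exact hxV
    obtain ⟨_, ⟨W, hW, rfl⟩, hsW, eW⟩ := T.isBasis_affineOpens.exists_subset_of_mem_open hsV (t ⁻¹ᵁ V).2
    replace hV : IsAffineOpen V := hV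
    replace hU : IsAffineOpen U := hU
    replace hW : IsAffineOpen W := hW
    replace e : U ≤ g ⁻¹ᵁ V := e
    replace eW : W ≤ t ⁻¹ᵁ V := eW
    obtain ⟨a, ha, j, hjo, hxj, hj⟩ := exists_chart hb hU _ hxU
    haveI := hjo
    letI := baseAlg g e
    letI := baseAlg t eW
    letI := chartAlg (R := Γ(S, V)) (𝓘.ideal ⟨U, hU⟩) a ha
    let C := Chart (𝓘.ideal ⟨U, hU⟩) a ha
    have e₁ : Spec.map (CommRingCat.ofHom (algebraMap Γ(S, V) C)) ≫ hV.fromSpec = j ≫ b ≫ g := by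
      rw [reassoc_of% hj, fromSpec_comp g hU hV e, ← Spec.map_comp_assoc]
      rfl
    have e₂ : Spec.map (CommRingCat.ofHom (algebraMap Γ(S, V) Γ(T, W))) ≫ hV.fromSpec =
        (hW.fromSpec : Spec (CommRingCat.of Γ(T, W)) ⟶ T) ≫ t :=
      (fromSpec_comp t hW hV eW).symm
    haveI : IsOpenImmersion (hW.fromSpec : Spec (CommRingCat.of Γ(T, W)) ⟶ T) :=
      inferInstanceAs (IsOpenImmersion hW.fromSpec)
    let m := pullback.map (Spec.map (CommRingCat.ofHom (algebraMap Γ(S, V) C)))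
      (Spec.map (CommRingCat.ofHom (algebraMap Γ(S, V) Γ(T, W)))) (b ≫ g) t j
      (hW.fromSpec : Spec (CommRingCat.of Γ(T, W)) ⟶ T) hV.fromSpec e₁ e₂
    let n := (pullbackSpecIso Γ(S, V) C Γ(T, W)).inv ≫ m ≫ hP.isoPullback.inv
    have hn : n ≫ pX' = Spec.map (CommRingCat.ofHom (Algebra.TensorProduct.includeLeftRingHom)) ≫ j := by
      simp only [n, Category.assoc, IsPullback.isoPullback_inv_fst, m, pullback.lift_fst]
      rw [← pullbackSpecIso_inv_fst Γ(S, V) C Γ(T, W), Category.assoc]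
    refine ⟨_, n, inferInstance, ?_, ?_⟩
    · obtain ⟨q, hq⟩ : hP.isoPullback.hom p ∈ Set.range m := by
        rw [Scheme.Pullback.range_map]
        refine ⟨?_, ?_⟩
        · show pullback.fst (b ≫ g) t (hP.isoPullback.hom p) ∈ Set.range j
          rw [← Scheme.Hom.comp_apply, IsPullback.isoPullback_hom_fst]
          exact hxj
        · show pullback.snd (b ≫ g) t (hP.isoPullback.hom p) ∈ Set.range hW.fromSpec
          rw [← Scheme.Hom.comp_apply, IsPullback.isoPullback_hom_snd, hW.range_fromSpec]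
          exact hsW
      refine ⟨(pullbackSpecIso Γ(S, V) C Γ(T, W)).hom q, ?_⟩
      rw [← Scheme.Hom.comp_apply]
      simp only [n, Iso.hom_inv_id_assoc, Scheme.Hom.comp_apply, hq]
      rw [← Scheme.Hom.comp_apply, Iso.hom_inv_id]
      rfl
    · have hcomp : n ≫ bT ≫ pX = Spec.map (CommRingCat.ofHom Algebra.TensorProduct.includeLeftRingHom) ≫ (j ≫ b) := by
        rw [← hX'.w, reassoc_of% hn]
      have he : ((𝓘.comap pX).comap bT).comap n =
          ((𝓘.comap b).comap j).comap (Spec.map (CommRingCat.ofHom Algebra.TensorProduct.includeLeftRingHom)) := by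
        simp only [← Scheme.IdealSheafData.comap_comp, Category.assoc]
        exact congrArg 𝓘.comap ((Category.assoc _ _ _).trans hcomp)
      rw [he, comap_chart hj]
      exact isEffCartier_span_comap _
        (nzd_tensor (R := Γ(S, V)) (𝓘.ideal ⟨U, hU⟩) a ha (flat_quotient_pow g hU hV e hflat) Γ(T, W))
  · rw [← Scheme.IdealSheafData.comap_comp] at hY
    obtain ⟨k, hk, huniq⟩ := hb.2 Y (h ≫ pX) hY
    refine ⟨hX'.lift k h hk, hX'.lift_snd _ _ _, fun l hl => ?_⟩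
    apply hX'.hom_ext
    · rw [IsPullback.lift_fst]
      refine huniq _ ?_
      show (l ≫ pX') ≫ b = h ≫ pX
      rw [Category.assoc, hX'.w, reassoc_of% hl]
    · rw [IsPullback.lift_snd]; exact hl

end Groth.L07.BlowLib
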