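import Groth.Agent.L11.BlowSmooth.Alg
import Groth.Agent.L14.RegImmStalk.Kinds
import Mathlib.LinearAlgebra.DirectSum.Finsupp
import Mathlib.RingTheory.MvPolynomial.Basic
import Mathlib.RingTheory.Flat.Basic

/-! Charts of the blow-up in a regular sequence and Tor-independent base change. -/

set_option autoImplicit false
set_option linter.style.haveILetI false
set_option maxSynthPendingDepth 3
set_option synthInstance.maxHeartbeats 400000
set_option maxHeartbeats 1600000
set_option backward.isDefEq.respectTransparency false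
set_option backward.isDefEq.respectTransparency.types false

universe u

open TensorProduct MvPolynomial Groth.L13.BU Groth.L11.BlowSmooth

namespace Groth.L07.BlowLib

variable {A : Type u} [CommRing A]

/-- relations of an `H₁`-regular image vanish in the tensor product -/
theorem ideal_tensor_injective {B : Type u} [CommRing B] [Algebra A B] {c : ℕ} (f : Fin c → A)
    (hB : CAlgX.IsH1Regular fun j => algebraMap A B (f j)) :
    Function.Injective ((sI f).subtype.rTensor B) := by
  classical
  let e : Fin c → sI f := fun j => ⟨f j, Ideal.subset_span ⟨j, rfl⟩⟩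
  let Φ : (Fin c → B) →ₗ[A] sI f ⊗[A] B :=
    ∑ j, (TensorProduct.mk A (sI f) B (e j)) ∘ₗ LinearMap.proj j
  have hΦ : ∀ v, Φ v = ∑ j, e j ⊗ₜ v j := fun v => by simp [Φ]
  have hsurj : ∀ z : sI f ⊗[A] B, ∃ v, Φ v = z := by
    intro z
    induction z using TensorProduct.induction_on with
    | zero => exact ⟨0, map_zero _⟩
    | tmul x y =>
      obtain ⟨r, hr⟩ := Ideal.mem_span_range_iff_exists_fun.1 x.2
      refine ⟨fun j => r j • y, ?_⟩
      have hx : x = ∑ j, r j • e j := Subtype.ext (by simp [e, hr])
      rw [hΦ, hx, TensorProduct.sum_tmul]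
      exact Finset.sum_congr rfl fun j _ => TensorProduct.tmul_smul _ _ _
    | add x y hx hy =>
      obtain ⟨v, rfl⟩ := hx
      obtain ⟨w, rfl⟩ := hy
      exact ⟨v + w, map_add _ _ _⟩
  refine (injective_iff_map_eq_zero _).mpr fun z hz => ?_
  obtain ⟨v, rfl⟩ := hsurj z
  have h0 : ∑ j, v j * algebraMap A B (f j) = 0 := by
    have h1 := congrArg (TensorProduct.lid A B) hz
    rw [hΦ, map_sum, map_sum, map_zero] at h1
    refine Eq.trans (Finset.sum_congr rfl fun j _ => ?_) h1
    simp [e, Algebra.smul_def, mul_comm]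
  suffices h : ∀ b : B, Φ (b • v) = 0 by simpa using h 1
  have hmem := hB v h0
  clear hz h0
  induction hmem using Submodule.span_induction with
  | mem w hw =>
    obtain ⟨i, j, rfl⟩ := hw
    intro b
    have hs : ∀ (k : Fin c) (x : B), Φ (Pi.single k x) = e k ⊗ₜ x := by
      intro k x
      rw [hΦ, Finset.sum_eq_single k (fun l _ hl => by simp [Pi.single_eq_of_ne hl]) (by simp)]
      simp
    rw [smul_sub, ← Pi.single_smul, ← Pi.single_smul, map_sub, hs, hs, sub_eq_zero, smul_eq_mul,
      smul_eq_mul, mul_comm b, mul_comm b, ← Algebra.smul_def, ← Algebra.smul_def,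
      ← TensorProduct.smul_tmul, ← TensorProduct.smul_tmul]
    congr 1
    exact Subtype.ext (mul_comm _ _)
  | zero => intro b; simp
  | add x y _ _ hx hy => intro b; rw [smul_add, map_add, hx, hy, add_zero]
  | smul r x _ hx => intro b; rw [smul_smul]; exact hx _

section Seq

variable {N : Type u} [AddCommGroup N] [Module A N] {P K : Type u} [AddCommGroup P] [Module A P]
  [AddCommGroup K] [Module A K] [Module.Flat A P] (s : K →ₗ[A] P) (π : P →ₗ[A] N)
  (hs : Function.Injective s) (hex : Function.Exact s π) (hπ : Function.Surjective π)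

include hs hex hπ in
theorem quot_lTensor_injective (I : Ideal A) (hI : Function.Injective (I.subtype.rTensor N)) :
    Function.Injective (s.lTensor (A ⧸ I)) := by
  refine (injective_iff_map_eq_zero _).mpr fun z hz => ?_
  obtain ⟨y, rfl⟩ := LinearMap.rTensor_surjective K (Submodule.mkQ_surjective I) z
  have hEP : Function.Exact (I.subtype.rTensor P) ((Submodule.mkQ I).rTensor P) :=
    rTensor_exact P (LinearMap.exact_subtype_mkQ I) (Submodule.mkQ_surjective I)
  rw [← LinearMap.comp_apply, LinearMap.lTensor_comp_rTensor, ← LinearMap.rTensor_comp_lTensor,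
    LinearMap.comp_apply] at hz
  obtain ⟨w, hw⟩ := (hEP _).1 hz
  have h1 : π.lTensor I w = 0 := by
    refine hI ?_
    rw [map_zero, ← LinearMap.comp_apply, LinearMap.rTensor_comp_lTensor, ← LinearMap.lTensor_comp_rTensor,
      LinearMap.comp_apply, hw, ← LinearMap.comp_apply, ← LinearMap.lTensor_comp,
      hex.linearMap_comp_eq_zero, LinearMap.lTensor_zero]
    rfl
  have h2 : ∃ w', s.lTensor I w' = w := ((lTensor_exact I hex hπ) w).1 h1
  obtain ⟨w', rfl⟩ := h2
  have h3 : I.subtype.rTensor K w' = y := by
    refine Module.Flat.lTensor_preserves_injective_linearMap (M := A) s hs ?_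
    rw [← hw, ← LinearMap.comp_apply, LinearMap.lTensor_comp_rTensor, ← LinearMap.rTensor_comp_lTensor,
      LinearMap.comp_apply]
  rw [← h3, ← LinearMap.comp_apply, ← LinearMap.rTensor_comp,
    (LinearMap.exact_subtype_mkQ I).linearMap_comp_eq_zero, LinearMap.rTensor_zero]
  rfl

include hs in
theorem quot_finsupp_lTensor_injective (κ : Type*) (M : Type u) [AddCommGroup M] [Module A M]
    (h : Function.Injective (s.lTensor M)) : Function.Injective (s.lTensor (κ →₀ M)) := by
  classical
  let eK := TensorProduct.finsuppLeft A A M K κ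
  let eP := TensorProduct.finsuppLeft A A M P κ
  have hc : ∀ z, eP (s.lTensor (κ →₀ M) z) = (eK z).mapRange (s.lTensor M) (map_zero _) := by
    intro z
    induction z using TensorProduct.induction_on with
    | zero => simp
    | tmul x y => ext i; simp [eK, eP, TensorProduct.finsuppLeft_apply_tmul_apply]
    | add x y hx hy => simp [map_add, hx, hy, Finsupp.mapRange_add]
  intro x y hxy
  refine eK.injective (Finsupp.mapRange_injective _ (map_zero _) h ?_)
  rw [← hc, ← hc, hxy]

include hs hex hπ in
theorem rTensor_injective_of_lTensor {X Y M : Type u} [AddCommGroup X] [Module A X] [AddCommGroup Y] [Module A Y]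
    [AddCommGroup M] [Module A M] {f : X →ₗ[A] Y} {g : Y →ₗ[A] M} (hf : Function.Injective f)
    (hg : Function.Surjective g) (hfg : Function.Exact f g) (hM : Function.Injective (s.lTensor M)) :
    Function.Injective (f.rTensor N) := by
  refine (injective_iff_map_eq_zero _).mpr fun z hz => ?_
  obtain ⟨z', rfl⟩ := LinearMap.lTensor_surjective X hπ z
  rw [← LinearMap.comp_apply, LinearMap.rTensor_comp_lTensor, ← LinearMap.lTensor_comp_rTensor,
    LinearMap.comp_apply] at hz
  obtain ⟨y, hy⟩ := ((lTensor_exact Y hex hπ) _).mp hz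
  have h1 : g.rTensor _ y = 0 := by
    refine hM ?_
    rw [map_zero, ← LinearMap.comp_apply, LinearMap.lTensor_comp_rTensor,
      ← LinearMap.rTensor_comp_lTensor, LinearMap.comp_apply, hy, ← LinearMap.comp_apply,
      ← LinearMap.rTensor_comp, hfg.linearMap_comp_eq_zero, LinearMap.rTensor_zero]
    rfl
  obtain ⟨w, rfl⟩ := ((rTensor_exact _ hfg hg) _).mp h1
  rw [← LinearMap.comp_apply, LinearMap.lTensor_comp_rTensor, ← LinearMap.rTensor_comp_lTensor,
    LinearMap.comp_apply] at hy
  have h2 := Module.Flat.rTensor_preserves_injective_linearMap (M := P) f hf hy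
  rw [← h2, ← LinearMap.comp_apply, ← LinearMap.lTensor_comp, hex.linearMap_comp_eq_zero,
    LinearMap.lTensor_zero]
  rfl

end Seq

/-- the generator of the exceptional ideal stays a nonzerodivisor after a Tor-independent base change -/
theorem nzd_tensor_regular {B : Type u} [CommRing B] [Algebra A B] {c : ℕ} (f : Fin c → A) (i : Fin c)
    (hf : CAlgX.IsQuasiRegular f) (hB : CAlgX.IsH1Regular fun j => algebraMap A B (f j)) :
    letI := (sh f i).toAlgebra
    (sh f i (f i)) ⊗ₜ[A] (1 : B) ∈ nonZeroDivisors (SC f i ⊗[A] B) := by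
  classical
  letI := (sh f i).toAlgebra
  let π : (B →₀ A) →ₗ[A] B := Finsupp.linearCombination A (id : B → B)
  let s := (LinearMap.ker π).subtype
  have hs : Function.Injective s := Submodule.injective_subtype _
  have hex : Function.Exact s π := LinearMap.exact_subtype_ker_map π
  have hπ : Function.Surjective π := Finsupp.linearCombination_id_surjective A B
  let E := (sI f).map (sh f i)
  let e₀ : MvPolynomial {j // j ≠ i} (A ⧸ sI f) ≃ₐ[A] SC f i ⧸ E :=
    AlgEquiv.ofRingEquiv (f := RingEquiv.ofBijective (pres f i) ⟨pres_injective f i hf, pres_surjective f i⟩)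
      (fun r => by
        show pres f i (algebraMap A _ r) = _
        rw [IsScalarTower.algebraMap_apply A (A ⧸ sI f) (MvPolynomial {j // j ≠ i} (A ⧸ sI f))]
        simp [pres, MvPolynomial.algebraMap_eq]
        rfl)
  let e : (SC f i ⧸ E) ≃ₗ[A] (({j // j ≠ i} →₀ ℕ) →₀ A ⧸ sI f) :=
    e₀.symm.toLinearEquiv.trans ((MvPolynomial.basisMonomials {j // j ≠ i} (A ⧸ sI f)).repr.restrictScalars A)
  have h1 := quot_finsupp_lTensor_injective s hs ({j // j ≠ i} →₀ ℕ) (A ⧸ sI f)
    (quot_lTensor_injective s π hs hex hπ (sI f) (ideal_tensor_injective f hB))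
  have hM : Function.Injective (s.lTensor (SC f i ⧸ E)) := by
    intro x y hxy
    refine (LinearEquiv.rTensor _ e).injective (h1 ?_)
    have hc : ∀ z, s.lTensor _ (LinearEquiv.rTensor _ e z) = LinearEquiv.rTensor _ e (s.lTensor _ z) := fun z => by
      show (s.lTensor _ ∘ₗ e.toLinearMap.rTensor _) z = (e.toLinearMap.rTensor _ ∘ₗ s.lTensor _) z
      rw [LinearMap.lTensor_comp_rTensor, LinearMap.rTensor_comp_lTensor]
    rw [hc, hc, hxy]
  let m : SC f i →ₗ[A] SC f i := LinearMap.mulLeft A (sh f i (f i))
  have hm : Function.Injective m := fun x y h =>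
    (mul_cancel_left_mem_nonZeroDivisors (chartHom_nonZeroDivisor (sI f) (f i) (mem_pow_one f i))).1 h
  let q := (Ideal.Quotient.mkₐ A E).toLinearMap
  have hfg : Function.Exact m q := by
    intro x
    show Ideal.Quotient.mk E x = 0 ↔ x ∈ Set.range m
    rw [Ideal.Quotient.eq_zero_iff_mem]
    show x ∈ (sI f).map (chartHom (sI f) (f i) (mem_pow_one f i)) ↔ _
    rw [map_ideal, Ideal.mem_span_singleton]
    exact ⟨fun ⟨c, hc⟩ => ⟨c, hc.symm⟩, fun ⟨c, hc⟩ => ⟨c, hc.symm⟩⟩
  have h2 : Function.Injective (m.rTensor B) :=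
    rTensor_injective_of_lTensor s π hs hex hπ hm Ideal.Quotient.mk_surjective hfg hM
  have h3 : ∀ t, m.rTensor B t = (sh f i (f i)) ⊗ₜ[A] (1 : B) * t := by
    intro t
    induction t using TensorProduct.induction_on with
    | zero => simp
    | tmul x y => simp [m]
    | add x y hx hy => rw [map_add, hx, hy, mul_add]
  rw [mem_nonZeroDivisors_iff_right]
  intro t ht
  refine h2 ?_
  rw [map_zero, h3, mul_comm, ht]

end Groth.L07.BlowLib
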