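import Groth.Agent.L07.BlowLib.KoszulBC
import Groth.Agent.L07.BlowLib.FlatScheme
import Groth.Agent.L19.Thick.H1Reg
import Groth.Agent.L03.RegImmFlat
import Groth.Prelude.Def_RegImm

/-! Blow-ups in Koszul-regular ideals commute with Tor-independent base change. -/

set_option autoImplicit false
set_option linter.style.haveILetI false
set_option maxSynthPendingDepth 3
set_option maxHeartbeats 1600000
set_option backward.isDefEq.respectTransparency false
set_option backward.isDefEq.respectTransparency.types false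

universe u

open CategoryTheory CategoryTheory.Limits AlgebraicGeometry TopologicalSpace Opposite
open TensorProduct

namespace Groth.L07.BlowLib

open Groth.L13.BU Groth.L22 Groth.L11.BlowSmooth

variable {X X' B : Scheme.{u}}

theorem isBlowUp_pullback_koszul (𝓘 : X.IdealSheafData) (h𝓘 : RegImm.IsRegularIdeal .koszul 𝓘) (g : X' ⟶ X)
    (hg : ∀ (U : X.affineOpens) (rs : List Γ(X, U.1)), LCI.IsKoszulRegularSeq Γ(X, U.1) rs →
      𝓘.ideal U = Ideal.ofList rs → ∀ (V : X'.affineOpens) (e : V.1 ≤ g ⁻¹ᵁ U.1),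
        LCI.IsKoszulRegularSeq Γ(X', V.1) (rs.map fun r => (g.appLE U.1 V.1 e).hom r))
    (b : B ⟶ X) (hb : BlowUp.IsBlowUp b 𝓘) :
    BlowUp.IsBlowUp (pullback.snd b g) (𝓘.comap g) := by
  refine ⟨isEffCartier_of_cover fun p => ?_, fun Y h hY => ?_⟩
  · rw [← Scheme.IdealSheafData.comap_comp]
    by_cases hx : g (pullback.snd b g p) ∈ 𝓘.support
    · obtain ⟨U, hxU, rs, hrs, hI⟩ := h𝓘 _ hx
      obtain ⟨_, ⟨V, hV, rfl⟩, hyV, e⟩ :=
        X'.isBasis_affineOpens.exists_subset_of_mem_open (show pullback.snd b g p ∈ g ⁻¹ᵁ U.1 from hxU) (g ⁻¹ᵁ U.1).2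
      replace hV : IsAffineOpen V := hV
      replace e : V ≤ g ⁻¹ᵁ U.1 := e
      let φ := (g.appLE U.1 V e).hom
      have hUspan : 𝓘.ideal U = sI rs.get := by
        rw [hI, sI, Ideal.ofList]
        congr 1
        ext x
        simp [List.mem_iff_get]
      have hq : CAlgX.IsQuasiRegular rs.get :=
        Groth.L14.RegImmStalk.isQuasiRegular_of_h1 (Groth.L19.Thick.isH1Regular_of_koszul hrs)
      have hB : CAlgX.IsH1Regular fun j => φ (rs.get j) := by
        have h1 := Groth.L03.RegImmFlat.isH1Regular_cast (List.length_map (f := fun r => φ r) (as := rs)).symm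
          (Groth.L19.Thick.isH1Regular_of_koszul (hg U rs hrs hI ⟨V, hV⟩ e))
        convert h1 using 1
        funext j
        simp
      obtain ⟨k, j, hj, hpj, hjb⟩ := exists_blowUp_chart b 𝓘 hb U rs.get hUspan (pullback.fst b g p) (by
        rw [← Scheme.Hom.comp_apply, pullback.condition, Scheme.Hom.comp_apply]; exact hxU)
      haveI := hj
      letI := φ.toAlgebra
      letI := (sh rs.get k).toAlgebra
      have e₁ : Spec.map (CommRingCat.ofHom (algebraMap Γ(X, U.1) (SC rs.get k))) ≫ U.2.fromSpec = j ≫ b := hjb.symm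
      have e₂ : Spec.map (CommRingCat.ofHom (algebraMap Γ(X, U.1) Γ(X', V))) ≫ U.2.fromSpec =
          (hV.fromSpec : Spec (CommRingCat.of Γ(X', V)) ⟶ X') ≫ g := (fromSpec_comp g hV U.2 e).symm
      haveI : IsOpenImmersion (hV.fromSpec : Spec (CommRingCat.of Γ(X', V)) ⟶ X') :=
        inferInstanceAs (IsOpenImmersion hV.fromSpec)
      let m := pullback.map (Spec.map (CommRingCat.ofHom (algebraMap Γ(X, U.1) (SC rs.get k))))
        (Spec.map (CommRingCat.ofHom (algebraMap Γ(X, U.1) Γ(X', V)))) b g j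
        (hV.fromSpec : Spec (CommRingCat.of Γ(X', V)) ⟶ X') U.2.fromSpec e₁ e₂
      let n := (pullbackSpecIso Γ(X, U.1) (SC rs.get k) Γ(X', V)).inv ≫ m
      have hn : n ≫ pullback.fst b g =
          Spec.map (CommRingCat.ofHom (Algebra.TensorProduct.includeLeftRingHom)) ≫ j := by
        simp only [n, Category.assoc, m, pullback.lift_fst]
        rw [← pullbackSpecIso_inv_fst Γ(X, U.1) (SC rs.get k) Γ(X', V), Category.assoc]
      refine ⟨_, n, inferInstance, ?_, ?_⟩
      · obtain ⟨q, hq'⟩ : p ∈ Set.range m := by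
          rw [Scheme.Pullback.range_map]
          refine ⟨hpj, ?_⟩
          show pullback.snd b g p ∈ Set.range hV.fromSpec
          rw [hV.range_fromSpec]
          exact hyV
        refine ⟨(pullbackSpecIso Γ(X, U.1) (SC rs.get k) Γ(X', V)).hom q, ?_⟩
        rw [← Scheme.Hom.comp_apply]
        simp only [n, Iso.hom_inv_id_assoc, hq']
      · have hcomp : n ≫ pullback.snd b g ≫ g =
            Spec.map (CommRingCat.ofHom Algebra.TensorProduct.includeLeftRingHom) ≫ (j ≫ b) := by
          rw [← pullback.condition, reassoc_of% hn]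
        rw [← Scheme.IdealSheafData.comap_comp, hcomp, Scheme.IdealSheafData.comap_comp, hjb,
          Scheme.IdealSheafData.comap_comp,
          show 𝓘.comap U.2.fromSpec = idealOf (sI rs.get) by rw [comap_fromSpec, hUspan],
          idealOf_map (sh rs.get k) (sI rs.get), map_ideal]
        exact isEffCartier_span_comap _ (nzd_tensor_regular rs.get k hq hB)
    · let W : (pullback b g).Opens := (pullback.snd b g ≫ g) ⁻¹ᵁ 𝓘.support.compl
      refine ⟨_, W.ι, inferInstance, ⟨⟨p, hx⟩, rfl⟩, ?_⟩
      rw [← Scheme.IdealSheafData.comap_comp, Ideals.comap_eq_top _ _ fun y hy => ?_]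
      · exact Ideals.isEffCartier_top
      · exact y.2 hy
  · rw [← Scheme.IdealSheafData.comap_comp] at hY
    obtain ⟨l, hl, huniq⟩ := hb.2 Y (h ≫ g) hY
    refine ⟨pullback.lift l h hl, pullback.lift_snd _ _ _, fun l' hl' => ?_⟩
    apply pullback.hom_ext
    · rw [pullback.lift_fst]
      refine huniq _ ?_
      show (l' ≫ pullback.fst b g) ≫ b = h ≫ g
      rw [Category.assoc, pullback.condition, reassoc_of% hl']
    · rw [pullback.lift_snd]; exact hl'

end Groth.L07.BlowLib
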