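import Groth.Agent.L07.BlowLib.StrictAlg
import Groth.Agent.L14.QRegRegular
import Groth.Agent.L07.QuasiRegular
import Mathlib.RingTheory.Nakayama
import Mathlib.LinearAlgebra.Matrix.Rank
import Mathlib.LinearAlgebra.Matrix.NonsingularInverse
import Mathlib.RingTheory.LocalRing.ResidueField.Basic

/-! Adapted generators of two regular ideals with regular intersection. -/

set_option autoImplicit false
set_option linter.style.haveILetI false
set_option maxSynthPendingDepth 3
set_option maxHeartbeats 1600000

universe u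

open RingTheory.Sequence IsLocalRing

namespace Groth.L07.BlowLib

variable {R : Type u} [CommRing R]

theorem ofList_eq_span_get (l : List R) : Ideal.ofList l = Ideal.span (Set.range l.get) := by
  rw [Ideal.ofList]
  congr 1
  ext x
  simp [List.mem_iff_get]

theorem regMod_append {J : Ideal R} {A B : List R} (hA : RegMod J A) (hB : RegMod (J ⊔ Ideal.ofList A) B) :
    RegMod J (A ++ B) := by
  intro n hn z hz
  by_cases h : n < A.length
  · rw [List.getElem_append_left h, List.take_append_of_le_length h.le] at hz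
    rw [List.take_append_of_le_length h.le]
    exact hA n h z hz
  · have h' : n - A.length < B.length := by rw [List.length_append] at hn; omega
    rw [List.getElem_append_right (not_lt.1 h), List.take_append, List.take_of_length_le (not_lt.1 h),
      Ideal.ofList_append, ← sup_assoc] at hz
    rw [List.take_append, List.take_of_length_le (not_lt.1 h), Ideal.ofList_append, ← sup_assoc]
    exact hB _ h' z hz

theorem regMod_map_mk {J : Ideal R} {A : List R} (hA : RegMod J A) :
    RegMod ⊥ (A.map (Ideal.Quotient.mk J)) := by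
  intro n hn z hz
  rw [List.length_map] at hn
  obtain ⟨z, rfl⟩ := Ideal.Quotient.mk_surjective z
  have hm : ∀ x, Ideal.Quotient.mk J x ∈ ⊥ ⊔ Ideal.ofList ((A.map (Ideal.Quotient.mk J)).take n) ↔
      x ∈ J ⊔ Ideal.ofList (A.take n) := fun x => by
    rw [bot_sup_eq, ← List.map_take, ← Ideal.map_ofList, ← Ideal.mem_comap,
      Ideal.comap_map_of_surjective _ Ideal.Quotient.mk_surjective, ← RingHom.ker_eq_comap_bot, Ideal.mk_ker,
      sup_comm]
  rw [List.getElem_map, ← map_mul, hm] at hz
  rw [hm]
  exact hA n hn z hz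

theorem regMod_congr {J : Ideal R} {A B : List R} (hlen : A.length = B.length)
    (h : ∀ (n : ℕ) (ha : n < A.length) (hb : n < B.length), A[n] - B[n] ∈ J) (hA : RegMod J A) : RegMod J B := by
  have hsup : ∀ n, J ⊔ Ideal.ofList (A.take n) = J ⊔ Ideal.ofList (B.take n) := by
    intro n
    refine le_antisymm ?_ ?_ <;>
    · refine sup_le le_sup_left (Ideal.span_le.2 fun x hx => ?_)
      obtain ⟨k, hk, rfl⟩ := List.mem_iff_getElem.1 hx
      rw [List.length_take] at hk
      rw [List.getElem_take]
      have hkA : k < A.length := by omega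
      have hkB : k < B.length := by omega
      first
      | (rw [show A[k] = (A[k] - B[k]) + B[k] by ring]
         refine add_mem (Ideal.mem_sup_left (h k hkA hkB)) (Ideal.mem_sup_right (Ideal.subset_span ?_))
         exact List.mem_iff_getElem.2 ⟨k, by rw [List.length_take]; omega, List.getElem_take⟩)
      | (rw [show B[k] = A[k] - (A[k] - B[k]) by ring]
         refine sub_mem (Ideal.mem_sup_right (Ideal.subset_span ?_)) (Ideal.mem_sup_left (h k hkA hkB))
         exact List.mem_iff_getElem.2 ⟨k, by rw [List.length_take]; omega, List.getElem_take⟩)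
  intro n hn z hz
  have hnA : n < A.length := by omega
  rw [← hsup] at hz ⊢
  refine hA n hnA z ?_
  rw [show A[n] * z = (A[n] - B[n]) * z + B[n] * z by ring]
  exact add_mem (Ideal.mem_sup_left (Ideal.mul_mem_right _ _ (h n hnA hn))) hz

variable {L : Type u} [CommRing L] [IsNoetherianRing L] [IsLocalRing L]

/-- independence modulo the maximal ideal -/
def Indep (l : List L) : Prop :=
  ∀ r : Fin l.length → L, ∑ i, r i * l.get i ∈ maximalIdeal L * Ideal.ofList l → ∀ i, r i ∈ maximalIdeal L

theorem exists_coeff {l : List L} {x : L} (h : x ∈ maximalIdeal L * Ideal.ofList l) :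
    ∃ s : Fin l.length → L, (∀ i, s i ∈ maximalIdeal L) ∧ ∑ i, s i * l.get i = x := by
  rw [ofList_eq_span_get] at h
  induction h using Submodule.mul_induction_on' with
  | mem_mul_mem u hu v hv =>
    obtain ⟨r, rfl⟩ := Ideal.mem_span_range_iff_exists_fun.1 hv
    exact ⟨fun i => u * r i, fun i => Ideal.mul_mem_right _ _ hu, by rw [Finset.mul_sum]; simp [mul_assoc]⟩
  | add a _ b _ ha hb =>
    obtain ⟨s, hs, rfl⟩ := ha
    obtain ⟨t, ht, rfl⟩ := hb
    exact ⟨s + t, fun i => add_mem (hs i) (ht i), by simp [add_mul, Finset.sum_add_distrib]⟩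

theorem indep_of_quasi {l : List L} (hm : ∀ x ∈ l, x ∈ maximalIdeal L) (h : CAlgX.IsQuasiRegular l.get) :
    Indep l := by
  classical
  intro r hr i
  obtain ⟨s, hs, hsum⟩ := exists_coeff hr
  have hle : Ideal.span (Set.range l.get) ≤ maximalIdeal L :=
    Ideal.span_le.2 (by rintro _ ⟨j, rfl⟩; exact hm _ (List.get_mem _ _))
  have h1 := h 1 (∑ j, MvPolynomial.C (r j - s j) * MvPolynomial.X j)
    (Groth.L14.QRR.isHomogeneous_linear _) (by
      simp only [map_sum, map_mul, MvPolynomial.eval_C, MvPolynomial.eval_X, sub_mul, Finset.sum_sub_distrib, hsum,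
        sub_self]
      exact zero_mem _) (Finsupp.single i 1)
  rw [Groth.L14.QRR.coeff_linear] at h1
  have h2 := add_mem (hle h1) (hs i)
  rwa [sub_add_cancel] at h2

theorem indep_of_regMod {l : List L} (hm : ∀ x ∈ l, x ∈ maximalIdeal L) (h : RegMod ⊥ l) : Indep l := by
  refine indep_of_quasi hm (Groth.L07.QReg.isQuasiRegular_of_isWeaklyRegular ?_)
  rw [List.ofFn_get]
  exact isWeaklyRegular_of_regMod h

theorem Indep.length_le {A B : List L} (hA : Indep A) (hB : Ideal.ofList A ≤ Ideal.ofList B)
    (hBA : Ideal.ofList B ≤ Ideal.ofList A) : A.length ≤ B.length := by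
  classical
  choose U hU using fun j : Fin A.length => Ideal.mem_span_range_iff_exists_fun.1
    (ofList_eq_span_get B ▸ hB (Ideal.subset_span (List.get_mem A j)) : A.get j ∈ Ideal.span (Set.range B.get))
  choose V hV using fun j : Fin B.length => Ideal.mem_span_range_iff_exists_fun.1
    (ofList_eq_span_get A ▸ hBA (Ideal.subset_span (List.get_mem B j)) : B.get j ∈ Ideal.span (Set.range A.get))
  let Um : Matrix (Fin A.length) (Fin B.length) L := Matrix.of U
  let Vm : Matrix (Fin B.length) (Fin A.length) L := Matrix.of V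
  have h1 : (Um * Vm).map (residue L) = 1 := by
    ext p q
    have hrel : ∑ t, ((Um * Vm) p t - (1 : Matrix (Fin A.length) (Fin A.length) L) p t) * A.get t ∈
        maximalIdeal L * Ideal.ofList A := by
      have h0 : ∑ t, (Um * Vm) p t * A.get t = A.get p := by
        simp only [Matrix.mul_apply, Finset.sum_mul, Um, Vm, Matrix.of_apply]
        rw [Finset.sum_comm]
        simp only [mul_assoc, ← Finset.mul_sum, hV]
        exact hU p
      simp only [sub_mul, Finset.sum_sub_distrib, h0]
      simp [Matrix.one_apply]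
    have hq := hA _ hrel q
    rw [← residue_eq_zero_iff, map_sub, sub_eq_zero] at hq
    rw [Matrix.map_apply, hq, Matrix.one_apply, Matrix.one_apply]
    split_ifs <;> simp
  rw [Matrix.map_mul] at h1
  have h2 := Matrix.rank_mul_le_left (Um.map (residue L)) (Vm.map (residue L))
  rw [h1, Matrix.rank_one, Fintype.card_fin] at h2
  exact h2.trans ((Matrix.rank_le_card_width _).trans (Fintype.card_fin _).le)

theorem span_eq_of_indep {A B : List L}
    (hA : ∀ r : Fin A.length → L, ∑ i, r i * A.get i ∈ maximalIdeal L * Ideal.ofList B → ∀ i, r i ∈ maximalIdeal L)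
    (hle : Ideal.ofList A ≤ Ideal.ofList B)
    (hlen : B.length = A.length) : Ideal.ofList B ≤ Ideal.ofList A := by
  classical
  let g : Fin A.length → L := fun i => B.get (Fin.cast hlen.symm i)
  have hrange : Set.range g = Set.range B.get :=
    Function.Surjective.range_comp (fun j => ⟨Fin.cast hlen j, rfl⟩) B.get
  have hspan : Ideal.ofList B = Ideal.span (Set.range g) := by rw [hrange, ofList_eq_span_get]
  choose U hU using fun j : Fin A.length => Ideal.mem_span_range_iff_exists_fun.1
    (hspan ▸ hle (Ideal.subset_span (List.get_mem A j)) : A.get j ∈ Ideal.span (Set.range g))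
  let Um : Matrix (Fin A.length) (Fin A.length) L := Matrix.of U
  have hmulA : Um.mulVec g = A.get := funext fun j => by simpa [Matrix.mulVec, dotProduct, Um] using hU j
  have hdet : IsUnit Um.det := by
    refine (isUnit_map_iff (residue L) _).1 ?_
    rw [RingHom.map_det, ← Matrix.isUnit_iff_isUnit_det, ← Matrix.vecMul_injective_iff_isUnit]
    refine (injective_iff_map_eq_zero (Matrix.vecMulLinear ((residue L).mapMatrix Um))).2 fun v hv => ?_
    choose w hw using fun j => residue_surjective (v j)
    have hmem : ∀ j, ∑ p, w p * Um p j ∈ maximalIdeal L := fun j => by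
      rw [← residue_eq_zero_iff, map_sum]
      refine Eq.trans ?_ (congrFun hv j)
      simp [Matrix.vecMul, dotProduct, hw]
    have hrel : ∑ p, w p * A.get p ∈ maximalIdeal L * Ideal.ofList B := by
      have h3 : ∑ p, w p * A.get p = ∑ j, (∑ p, w p * Um p j) * g j := by
        simp only [← hU, Finset.mul_sum, Finset.sum_mul, Um, Matrix.of_apply, mul_assoc]
        exact Finset.sum_comm
      rw [h3]
      exact sum_mem fun j _ => Ideal.mul_mem_mul (hmem j) (hspan ▸ Ideal.subset_span ⟨j, rfl⟩)
    funext j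
    rw [← hw j, Pi.zero_apply, residue_eq_zero_iff]
    exact hA w hrel j
  have hg : g = Um⁻¹.mulVec A.get := by
    rw [← hmulA, Matrix.mulVec_mulVec, Matrix.nonsing_inv_mul Um hdet, Matrix.one_mulVec]
  rw [hspan, Ideal.span_le]
  rintro _ ⟨j, rfl⟩
  rw [hg]
  show ∑ p, Um⁻¹ j p * A.get p ∈ Ideal.ofList A
  exact Ideal.sum_mem _ fun p _ => Ideal.mul_mem_left _ _ (Ideal.subset_span (s := {r | r ∈ A}) (List.get_mem A p))

theorem regMod_of_indep_span {A B : List L} (hA : RegMod ⊥ A) (hm : ∀ x ∈ B, x ∈ maximalIdeal L)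
    (hspan : Ideal.ofList B = Ideal.ofList A) (hlen : B.length = A.length) : RegMod ⊥ B := by
  have hq : CAlgX.IsQuasiRegular A.get :=
    Groth.L07.QReg.isQuasiRegular_of_isWeaklyRegular (by rw [List.ofFn_get]; exact isWeaklyRegular_of_regMod hA)
  let g : Fin A.length → L := fun i => B.get (Fin.cast hlen.symm i)
  have hrange : Set.range g = Set.range B.get :=
    Function.Surjective.range_comp (fun j => ⟨Fin.cast hlen j, rfl⟩) B.get
  have hqg : CAlgX.IsQuasiRegular g := Groth.L14.QRR.isQuasiRegular_of_span_eq A.get g hq (by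
    rw [hrange, ← ofList_eq_span_get, ← ofList_eq_span_get, hspan])
  have hw := Groth.L14.QRR.isWeaklyRegular_of_isQuasiRegular g (fun i => by
    rw [IsLocalRing.jacobson_eq_maximalIdeal (⊥ : Ideal L) bot_ne_top]; exact hm _ (List.get_mem _ _)) hqg
  have he : List.ofFn g = B := by
    rw [List.ofFn_congr hlen.symm g]
    refine Eq.trans ?_ (List.ofFn_get B)
    congr 1
  rw [he] at hw
  exact regMod_bot_of_isWeaklyRegular hw

/-- adapted generators -/
theorem exists_adapted (I J : Ideal L) (fI fJ fA fB : List L) (hI : I ≠ ⊤) (hJ : J ≠ ⊤)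
    (hfI : I = Ideal.ofList fI) (hrI : RegMod ⊥ fI) (hfJ : J = Ideal.ofList fJ) (hrJ : RegMod ⊥ fJ)
    (hfA : J ⊔ Ideal.ofList fA = J ⊔ I) (hrA : RegMod J fA)
    (hfB : I ⊔ Ideal.ofList fB = I ⊔ J) (hrB : RegMod I fB) :
    ∃ a c b : List L, I = Ideal.ofList (a ++ c) ∧ RegMod ⊥ (a ++ c) ∧ J = Ideal.ofList (c ++ b) ∧
      RegMod ⊥ (c ++ b) ∧ RegMod I b ∧ (c ++ b).length = fJ.length := by
  classical
  have hIm := le_maximalIdeal hI
  have hJm := le_maximalIdeal hJ
  -- lifts
  have lift : ∀ (I J : Ideal L) (fA : List L), J ⊔ Ideal.ofList fA = J ⊔ I → RegMod J fA →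
      ∃ a : List L, (∀ x ∈ a, x ∈ I) ∧ I ≤ Ideal.ofList a ⊔ (I ⊓ J) ∧ RegMod J a := by
    intro I J fA hfA hrA
    have hx : ∀ j : Fin fA.length, ∃ y ∈ I, fA.get j - y ∈ J := fun j => by
      have h1 : fA.get j ∈ J ⊔ I := hfA ▸ Ideal.mem_sup_right (Ideal.subset_span (List.get_mem _ _))
      obtain ⟨u, hu, v, hv, huv⟩ := Submodule.mem_sup.1 h1
      exact ⟨v, hv, by rw [← huv, add_sub_cancel_right]; exact hu⟩
    choose y hyI hyJ using hx
    have hlen : fA.length = (List.ofFn y).length := List.length_ofFn.symm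
    have hsub : ∀ x ∈ List.ofFn y, x ∈ I := fun x hx => by
      obtain ⟨j, rfl⟩ := List.mem_ofFn.1 hx
      exact hyI j
    refine ⟨List.ofFn y, hsub, fun x hx => ?_, regMod_congr hlen (fun n ha hb => ?_) hrA⟩
    · have h1 : x ∈ J ⊔ Ideal.ofList (List.ofFn y) := by
        have h2 : x ∈ J ⊔ Ideal.ofList fA := hfA ▸ Ideal.mem_sup_right hx
        refine (sup_le le_sup_left (Ideal.span_le.2 fun t ht => ?_) : J ⊔ Ideal.ofList fA ≤ _) h2
        obtain ⟨j, rfl⟩ := List.mem_iff_get.1 ht
        rw [← sub_add_cancel (fA.get j) (y j)]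
        exact add_mem (Ideal.mem_sup_left (hyJ j)) (Ideal.mem_sup_right (Ideal.subset_span (List.mem_ofFn.2 ⟨j, rfl⟩)))
      obtain ⟨u, hu, v, hv, huv⟩ := Submodule.mem_sup.1 h1
      have huI : u ∈ I := by
        have hv' : v ∈ I := (Ideal.span_le.2 hsub : Ideal.ofList (List.ofFn y) ≤ I) hv
        rw [show u = x - v by rw [← huv, add_sub_cancel_right]]
        exact sub_mem hx hv'
      rw [← huv]
      exact add_mem (Ideal.mem_sup_right ⟨huI, hu⟩) (Ideal.mem_sup_left hv)
    · rw [List.getElem_ofFn]
      exact hyJ ⟨n, ha⟩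
  obtain ⟨a, haI, haIJ, hra⟩ := lift I J fA hfA hrA
  obtain ⟨b, hbJ, hbIJ, hrb⟩ := lift J I fB hfB hrB
  have hex : ∃ N, ∃ c : List L, c.length = N ∧ (∀ x ∈ c, x ∈ I ⊓ J) ∧ I ≤ Ideal.ofList (a ++ c) := by
    obtain ⟨T, hT⟩ := IsNoetherian.noetherian (I ⊓ J)
    refine ⟨_, T.toList, rfl, fun x hx => hT ▸ Submodule.subset_span (Finset.mem_toList.1 hx), haIJ.trans ?_⟩
    rw [Ideal.ofList_append]
    refine sup_le_sup_left (le_of_eq ?_) _
    rw [← hT, Ideal.ofList]
    congr 1
    ext x
    simp
  obtain ⟨c, hcN, hcIJ, hIac⟩ := Nat.find_spec hex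
  have hacI : Ideal.ofList (a ++ c) ≤ I := Ideal.span_le.2 fun x hx => by
    rcases List.mem_append.1 hx with h | h
    · exact haI x h
    · exact (hcIJ x h).1
  have hIeq : I = Ideal.ofList (a ++ c) := le_antisymm hIac hacI
  -- a is independent modulo `J`
  haveI : Nontrivial (L ⧸ J) := Ideal.Quotient.nontrivial_iff.2 hJ
  haveI : IsLocalRing (L ⧸ J) := .of_surjective' (Ideal.Quotient.mk J) Ideal.Quotient.mk_surjective
  have hmmap : ∀ x ∈ maximalIdeal L, Ideal.Quotient.mk J x ∈ maximalIdeal (L ⧸ J) := fun x hx hu => by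
    obtain ⟨y, hy⟩ := Ideal.Quotient.mk_surjective (hu.unit⁻¹ : (L ⧸ J)ˣ).1
    have h1 : x * y - 1 ∈ J := Ideal.Quotient.eq.1 (by rw [map_mul, hy, map_one]; exact hu.mul_val_inv)
    exact (Ideal.ne_top_iff_one _).1 (maximalIdeal.isMaximal L).ne_top
      (by simpa using sub_mem (Ideal.mul_mem_right y _ hx) (hJm h1))
  have haq : Indep (a.map (Ideal.Quotient.mk J)) := indep_of_regMod (fun x hx => by
    obtain ⟨t, ht, rfl⟩ := List.mem_map.1 hx
    exact hmmap t (hIm (haI t ht))) (regMod_map_mk hra)
  have hcoeffA : ∀ (r : Fin a.length → L) (y : L), y ∈ J →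
      ∑ i, r i * a.get i + y ∈ maximalIdeal L * (Ideal.ofList a ⊔ J) → ∀ i, r i ∈ maximalIdeal L := by
    intro r y hy hr i
    by_contra hri
    have hu : IsUnit (r i) := by
      by_contra h; exact hri h
    have h1 := Ideal.mem_map_of_mem (Ideal.Quotient.mk J) hr
    rw [map_add, Ideal.Quotient.eq_zero_iff_mem.2 hy, add_zero, map_sum, Ideal.map_mul, Ideal.map_sup,
      Ideal.map_quotient_self, sup_bot_eq, Ideal.map_ofList] at h1
    have h2 : (Finset.univ.sum fun k : Fin (a.map (Ideal.Quotient.mk J)).length =>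
        Ideal.Quotient.mk J (r (Fin.cast (List.length_map _) k)) * (a.map (Ideal.Quotient.mk J)).get k) ∈
        maximalIdeal (L ⧸ J) * Ideal.ofList (a.map (Ideal.Quotient.mk J)) := by
      refine Ideal.mul_mono_left (Ideal.map_le_iff_le_comap.2 fun x hx => Ideal.mem_comap.2 (hmmap x hx)) ?_
      convert h1 using 1
      refine Fintype.sum_equiv (finCongr (List.length_map _)) _ _ fun k => ?_
      simp
    have h3 := haq _ h2 (Fin.cast (List.length_map _).symm i)
    exact (IsLocalRing.maximalIdeal.isMaximal (L ⧸ J)).ne_top (Ideal.eq_top_of_isUnit_mem _ h3 (hu.map _))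
  have hlist : ∀ (A B : List L) (r : Fin (A ++ B).length → L),
      ∑ i, r i * (A ++ B).get i =
        ∑ i, r (Fin.cast List.length_append.symm (Fin.castAdd _ i)) * A.get i +
        ∑ i, r (Fin.cast List.length_append.symm (Fin.natAdd _ i)) * B.get i := by
    intro A B r
    rw [← Fintype.sum_equiv (finCongr (List.length_append (as := A) (bs := B)).symm)
      (fun k => r (Fin.cast List.length_append.symm k) * (A ++ B).get (Fin.cast List.length_append.symm k))
      (fun k => r k * (A ++ B).get k) (fun k => rfl), Fin.sum_univ_add]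
    congr 1 <;> refine Finset.sum_congr rfl fun k _ => ?_
    · simp [List.getElem_append_left]
    · simp [List.getElem_append_right]
  have hacind : Indep (a ++ c) := by
    intro r hr
    rw [hlist] at hr
    let ra := fun i => r (Fin.cast List.length_append.symm (Fin.castAdd c.length i))
    let rc := fun i => r (Fin.cast List.length_append.symm (Fin.natAdd a.length i))
    have hyJ : ∑ i, rc i * c.get i ∈ J :=
      sum_mem fun i _ => Ideal.mul_mem_left _ _ (hcIJ _ (List.get_mem _ _)).2
    have hra' : ∀ i, ra i ∈ maximalIdeal L := hcoeffA ra _ hyJ (Ideal.mul_mono_right (by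
      rw [Ideal.ofList_append]; exact sup_le_sup_left (Ideal.span_le.2 fun x hx => (hcIJ x hx).2) _) hr)
    have hc0 : ∀ k, rc k ∈ maximalIdeal L := by
      intro k
      by_contra hk
      have hu : IsUnit (rc k) := by by_contra h; exact hk h
      let c' := c.eraseIdx k.1
      have hsumc : ∑ i, rc i * c.get i ∈ maximalIdeal L * I := by
        rw [hIeq]
        have h1 : ∑ i, ra i * a.get i ∈ maximalIdeal L * Ideal.ofList (a ++ c) :=
          sum_mem fun i _ => Ideal.mul_mem_mul (hra' i) (Ideal.subset_span (List.mem_append_left _ (List.get_mem _ _)))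
        rw [show ∑ i, rc i * c.get i = (∑ i, ra i * a.get i + ∑ i, rc i * c.get i) - ∑ i, ra i * a.get i by
          rw [add_sub_cancel_left]]
        exact sub_mem hr h1
      have hck : c.get k ∈ Ideal.ofList (a ++ c') ⊔ maximalIdeal L * I := by
        rw [← Ideal.unit_mul_mem_iff_mem _ hu, ← add_sub_cancel_right (rc k * c.get k)
          (∑ i ∈ Finset.univ.erase k, rc i * c.get i), Finset.add_sum_erase _ (fun i => rc i * c.get i) (Finset.mem_univ k)]
        refine sub_mem (Ideal.mem_sup_right hsumc) (Ideal.mem_sup_left (sum_mem fun i hi => ?_))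
        refine Ideal.mul_mem_left _ _ (Ideal.subset_span (List.mem_append_right _ ?_))
        exact List.mem_eraseIdx_iff_getElem.2 ⟨i.1, i.2, fun h => (Finset.ne_of_mem_erase hi) (Fin.ext h), rfl⟩
      have hle : I ≤ Ideal.ofList (a ++ c') ⊔ maximalIdeal L * I := by
        refine hIac.trans (Ideal.span_le.2 fun x hx => ?_)
        rcases List.mem_append.1 hx with h | h
        · exact Ideal.mem_sup_left (Ideal.subset_span (List.mem_append_left _ h))
        · obtain ⟨j, rfl⟩ := List.mem_iff_get.1 h
          by_cases hj : j = k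
          · rw [hj]; exact hck
          · exact Ideal.mem_sup_left (Ideal.subset_span (List.mem_append_right _
              (List.mem_eraseIdx_iff_getElem.2 ⟨j.1, j.2, fun h => hj (Fin.ext h), rfl⟩)))
      have hN : I ≤ Ideal.ofList (a ++ c') := Submodule.le_of_le_smul_of_le_jacobson_bot
        (IsNoetherian.noetherian I) (by rw [IsLocalRing.jacobson_eq_maximalIdeal ⊥ bot_ne_top]) hle
      refine Nat.find_min hex (m := c'.length) ?_ ⟨c', rfl, fun x hx => hcIJ x (List.mem_of_mem_eraseIdx hx), hN⟩
      rw [← hcN, List.length_eraseIdx_of_lt k.2]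
      have := k.2
      omega
    intro i
    obtain ⟨j, rfl⟩ : ∃ j, Fin.cast List.length_append.symm j = i := ⟨Fin.cast List.length_append i, rfl⟩
    induction j using Fin.addCases with
    | left j => exact hra' j
    | right j => exact hc0 j
  have hlenI : (a ++ c).length = fI.length := by
    refine le_antisymm (hacind.length_le (by rw [← hIeq, hfI]) (by rw [← hIeq, hfI])) ?_
    exact (indep_of_regMod (fun x hx => hIm (hfI ▸ Ideal.subset_span hx)) hrI).length_le
      (by rw [← hIeq, hfI]) (by rw [← hIeq, hfI])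
  have hrac : RegMod ⊥ (a ++ c) := regMod_of_indep_span hrI
    (fun x hx => hIm (hIeq ▸ Ideal.subset_span hx)) (by rw [← hIeq, hfI]) hlenI
  -- the sum
  have hS : I ⊔ J = Ideal.ofList (a ++ c ++ b) := by
    rw [Ideal.ofList_append, ← hIeq]
    exact le_antisymm (sup_le le_sup_left (hbIJ.trans (sup_le le_sup_right (inf_le_right.trans le_sup_left))))
      (sup_le_sup_left (Ideal.span_le.2 hbJ) _)
  have hracb : RegMod ⊥ (a ++ c ++ b) := regMod_append hrac (by rw [bot_sup_eq, ← hIeq]; exact hrb)
  have hrJa : RegMod ⊥ (fJ ++ a) := regMod_append hrJ (by rw [bot_sup_eq, ← hfJ]; exact hra)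
  have hSJ : I ⊔ J = Ideal.ofList (fJ ++ a) := by
    rw [Ideal.ofList_append, ← hfJ]
    exact le_antisymm (sup_le (haIJ.trans (sup_le le_sup_right (inf_le_right.trans le_sup_left))) le_sup_left)
      (sup_le le_sup_right ((Ideal.span_le.2 haI).trans le_sup_left))
  have hSm : I ⊔ J ≤ maximalIdeal L := sup_le hIm hJm
  have hi1 := indep_of_regMod (fun x hx => hSm (hS ▸ Ideal.subset_span hx)) hracb
  have hi2 := indep_of_regMod (fun x hx => hSm (hSJ ▸ Ideal.subset_span hx)) hrJa
  have hlen : (c ++ b).length = fJ.length := by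
    have h1 := hi1.length_le (B := fJ ++ a) (by rw [← hS, hSJ]) (by rw [← hS, hSJ])
    have h2 := hi2.length_le (B := a ++ c ++ b) (by rw [← hS, hSJ]) (by rw [← hS, hSJ])
    simp only [List.length_append] at h1 h2 ⊢
    omega
  have hcbJ : Ideal.ofList (c ++ b) ≤ Ideal.ofList fJ := hfJ ▸ Ideal.span_le.2 fun x hx => by
    rcases List.mem_append.1 hx with h | h
    · exact (hcIJ x h).2
    · exact hbJ x h
  have hJcb : Ideal.ofList fJ ≤ Ideal.ofList (c ++ b) := by
    refine span_eq_of_indep (fun r hr i => ?_) hcbJ hlen.symm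
    let R' : Fin (a ++ (c ++ b)).length → L := fun k => Fin.addCases (motive := fun _ => L) (fun _ => 0) r
      (Fin.cast List.length_append k)
    have hh : Indep (a ++ (c ++ b)) := by rw [← List.append_assoc]; exact hi1
    have h2 : ∑ k, R' k * (a ++ (c ++ b)).get k ∈ maximalIdeal L * Ideal.ofList (a ++ (c ++ b)) := by
      rw [hlist]
      refine Ideal.mul_mono_right ?_ (by simpa [R'] using hr)
      rw [← List.append_assoc, ← hS, ← hfJ]
      exact le_sup_right
    simpa [R'] using hh R' h2 (Fin.cast List.length_append.symm (Fin.natAdd a.length i))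
  have hJeq : J = Ideal.ofList (c ++ b) := hfJ.trans (le_antisymm hJcb hcbJ)
  exact ⟨a, c, b, hIeq, hrac, hJeq,
    regMod_of_indep_span hrJ (fun x hx => hJm (hJeq ▸ Ideal.subset_span hx)) (le_antisymm hcbJ hJcb) hlen,
    hrb, hlen⟩

end Groth.L07.BlowLib
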